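import Cfsg.Agent.Lib.CosetEnum.Order

/-!
Helpers for chains of subgroups generated by letters.
-/

set_option autoImplicit false

namespace Cfsg.Agent.CosetEnum.InvPres

variable {α : Type} [DecidableEq α] (P : InvPres α)

theorem sub_eq_closure (sel : List ℕ) :
    P.sub sel = Subgroup.closure {g | g ∈ sel.map P.val} := by
  rw [InvPres.sub]
  congr 1
  ext g
  constructor
  · rintro ⟨l, hl, rfl⟩
    simp only [List.mem_map]
    have hl' : l < sel.length := hl
    exact ⟨sel[l], List.getElem_mem hl', by unfold subVal; rw [List.getElem?_eq_getElem hl']⟩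
  · intro hg
    obtain ⟨x, hx, rfl⟩ := List.mem_map.mp hg
    obtain ⟨l, hl, rfl⟩ := List.getElem_of_mem hx
    exact ⟨l, hl, by simp [subVal, List.getElem?_eq_getElem hl]⟩

theorem sub_mono {sel sel' : List ℕ} (h : sel ⊆ sel') : P.sub sel ≤ P.sub sel' := by
  rw [P.sub_eq_closure, P.sub_eq_closure]
  exact Subgroup.closure_mono fun g hg => List.map_subset _ h hg

theorem evalWord_mem_sub (sel' : List ℕ) : ∀ {W : List ℕ}, (∀ l ∈ W, l ∈ sel') →
    evalWord P.val W ∈ P.sub sel'
  | [], _ => one_mem _
  | l :: ls, h => by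
    refine mul_mem ?_ (evalWord_mem_sub sel' fun x hx => h x (List.mem_cons_of_mem _ hx))
    rw [P.sub_eq_closure]
    exact Subgroup.subset_closure (List.mem_map_of_mem (h l List.mem_cons_self))

/-- The words fixing the base point lie in the next subgroup of the chain. -/
theorem subs_mem (sel sel' : List ℕ) {subs : List (List ℕ)}
    (h : subs.all (fun W => W.all fun l => decide (l < sel.length ∧ sel.getD l 0 ∈ sel')) = true) :
    ∀ W ∈ subs, evalWord (P.subVal sel) W ∈ P.sub sel' := by
  intro W hW
  simp only [List.all_eq_true, decide_eq_true_eq] at h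
  rw [P.evalWord_subVal sel fun l hl => (h W hW l hl).1]
  refine P.evalWord_mem_sub sel' fun x hx => ?_
  obtain ⟨l, hl, rfl⟩ := List.mem_map.mp hx
  exact (h W hW l hl).2

theorem le_stab {T : Tbl} (R : P.Rep T) (hnd : P.gens.Nodup) (sel : List ℕ)
    (h : sel.all (fun l => Nat.blt l T.nl && Nat.beq (T.at' 0 l) 0) = true) :
    P.sub sel ≤ R.stab hnd := by
  rw [P.sub_eq_closure, Subgroup.closure_le]
  intro g hg
  obtain ⟨l, hl, rfl⟩ := List.mem_map.mp hg
  simp only [List.all_eq_true, Bool.and_eq_true] at h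
  rw [SetLike.mem_coe, R.mem_stab]
  apply Fin.ext
  rw [R.gen_apply hnd (Nat.le_of_ble_eq_true (h l hl).1)]
  exact Nat.eq_of_beq_eq_true (h l hl).2

theorem sub_words (sel : List ℕ) :
    P.sub sel = Subgroup.closure {g | ∃ W ∈ sel.map (fun l => [l]), evalWord P.val W = g} := by
  rw [P.sub_eq_closure]
  congr 1
  ext g
  show g ∈ List.map P.val sel ↔ _
  simp [evalWord]

/-- Transport of a computed orbit to the coset space of an equal subgroup. -/
theorem orbit_transport {G : Type} [Group G] {H K : Subgroup G} (e : H = K) {m : ℕ}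
    (h : ∃ q : G ⧸ K, (MulAction.orbit K q).ncard = m) :
    ∃ q : G ⧸ H, (MulAction.orbit H q).ncard = m := by
  subst e; exact h

/-- The order of a group from a chain. -/
theorem card_of_relIndex {G : Type} [Group G] (H : Subgroup G) {a : ℕ} (h : (⊥ : Subgroup G).relIndex H = a) :
    Nat.card H = a := by rwa [Subgroup.relIndex_bot_left] at h

end Cfsg.Agent.CosetEnum.InvPres
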