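import Cfsg.Agent.Lib.CosetEnum.Perm
import Cfsg.Prelude.Def_SporCoxeter

/-!
Glue between Coxeter-style presentations on involutions and words of letters.
-/

set_option autoImplicit false

namespace Cfsg.Agent.CosetEnum

open Cfsg.Spor

variable {α : Type} [DecidableEq α]

/-- The Coxeter words of the generators listed in `gens`. -/
def coxWords (edges : List (α × ℕ × α)) (gens : List α) : List (List ℕ) :=
  (List.range gens.length).flatMap fun i => (List.range gens.length).filterMap fun j =>
    match gens[i]?, gens[j]? with
    | some x, some y => some (repWord [i, j] (coxLabel edges x y))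
    | _, _ => none

/-- Extend a valuation of the generators to letters; other letters are trivial. -/
def letterVal {A : Type} [Group A] (gens : List α) (v : α → A) (l : ℕ) : A :=
  match gens[l]? with
  | some x => v x
  | none => 1

theorem letterVal_of_lt {A : Type} [Group A] (gens : List α) (v : α → A) {l : ℕ}
    (h : l < gens.length) : letterVal gens v l = v gens[l] := by
  simp [letterVal, List.getElem?_eq_getElem h]

theorem evalWord_repWord_pair {A : Type} [Group A] (gens : List α) (v : α → A) {i j : ℕ} (m : ℕ)
    (hi : i < gens.length) (hj : j < gens.length) :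
    evalWord (letterVal gens v) (repWord [i, j] m) = (v gens[i] * v gens[j]) ^ m := by
  rw [evalWord_repWord]
  show (letterVal gens v i * (letterVal gens v j * 1)) ^ m = _
  rw [mul_one, letterVal_of_lt gens v hi, letterVal_of_lt gens v hj]

/-- A valuation killing the Coxeter relators kills the Coxeter words. -/
theorem coxWords_one {A : Type} [Group A] (edges : List (α × ℕ × α)) (gens : List α) (v : α → A)
    (hnodes : ∀ x ∈ gens, x ∈ coxNodes edges)
    (h : ∀ r ∈ coxRelators edges, FreeGroup.lift v r = 1) :
    ∀ W ∈ coxWords edges gens, evalWord (letterVal gens v) W = 1 := by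
  intro W hW
  simp only [coxWords, List.mem_flatMap, List.mem_filterMap, List.mem_range] at hW
  obtain ⟨i, hi, j, hj, hW⟩ := hW
  rw [List.getElem?_eq_getElem hi, List.getElem?_eq_getElem hj] at hW
  obtain rfl := Option.some.inj hW
  rw [evalWord_repWord_pair gens v _ hi hj]
  have := h _ ⟨gens[i], hnodes _ (List.getElem_mem hi), gens[j], hnodes _ (List.getElem_mem hj), rfl⟩
  simpa using this

/-- A valuation killing the Coxeter words kills the Coxeter relators. -/
theorem coxRelators_one {A : Type} [Group A] (edges : List (α × ℕ × α)) (gens : List α) (v : α → A)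
    (hgens : ∀ x : α, x ∈ gens)
    (h : ∀ W ∈ coxWords edges gens, evalWord (letterVal gens v) W = 1) :
    ∀ r ∈ coxRelators edges, FreeGroup.lift v r = 1 := by
  rintro r ⟨x, -, y, -, rfl⟩
  obtain ⟨i, hi, rfl⟩ := List.getElem_of_mem (hgens x)
  obtain ⟨j, hj, rfl⟩ := List.getElem_of_mem (hgens y)
  have := h (repWord [i, j] (coxLabel edges gens[i] gens[j])) (by
    simp only [coxWords, List.mem_flatMap, List.mem_filterMap, List.mem_range]
    exact ⟨i, hi, j, hj, by rw [List.getElem?_eq_getElem hi, List.getElem?_eq_getElem hj]⟩)
  rw [evalWord_repWord_pair gens v _ hi hj] at this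
  simpa using this

theorem sq_of_coxWords {A : Type} [Group A] (edges : List (α × ℕ × α)) (gens : List α) (v : α → A)
    (h : ∀ W ∈ coxWords edges gens, evalWord (letterVal gens v) W = 1) {x : α} (hx : x ∈ gens) :
    v x * v x = 1 := by
  obtain ⟨i, hi, rfl⟩ := List.getElem_of_mem hx
  have := h (repWord [i, i] (coxLabel edges gens[i] gens[i])) (by
    simp only [coxWords, List.mem_flatMap, List.mem_filterMap, List.mem_range]
    exact ⟨i, hi, i, hi, by rw [List.getElem?_eq_getElem hi]⟩)
  rw [evalWord_repWord_pair gens v _ hi hi] at this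
  simpa [coxLabel] using this

/-- A finite group presented by a Coxeter diagram and extra words in the generators. -/
structure InvPres (α : Type) [DecidableEq α] where
  edges : List (α × ℕ × α)
  extra : List (FreeGroup α)
  gens : List α
  words : List (List ℕ)
  all_gens : ∀ x : α, x ∈ gens
  all_nodes : ∀ x : α, x ∈ coxNodes edges
  words_iff : ∀ (A : Type) [Group A] (v : α → A), (∀ x, v x * v x = 1) →
    ((∀ r ∈ extra, FreeGroup.lift v r = 1) ↔ ∀ W ∈ words, evalWord (letterVal gens v) W = 1)

namespace InvPres

variable (P : InvPres α)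

abbrev Gp : Type := CoxPresented α P.edges P.extra

def relWords : List (List ℕ) := coxWords P.edges P.gens ++ P.words

def val : ℕ → P.Gp := letterVal P.gens PresentedGroup.of

theorem lift_of (r : FreeGroup α) :
    FreeGroup.lift (fun x => (PresentedGroup.of x : P.Gp)) r = PresentedGroup.mk _ r := by
  have : FreeGroup.lift (fun x => (PresentedGroup.of x : P.Gp)) = PresentedGroup.mk _ := by
    ext x
    simp [PresentedGroup.of]
  rw [this]

theorem cox_val : ∀ W ∈ coxWords P.edges P.gens, evalWord P.val W = 1 :=
  coxWords_one P.edges P.gens _ (fun x _ => P.all_nodes x) fun r hr => by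
    rw [P.lift_of]
    exact PresentedGroup.one_of_mem (Or.inl hr)

theorem sq_val (x : α) : (PresentedGroup.of x : P.Gp) * PresentedGroup.of x = 1 :=
  sq_of_coxWords P.edges P.gens _ P.cox_val (P.all_gens x)

theorem rel_val : ∀ W ∈ P.relWords, evalWord P.val W = 1 := by
  intro W hW
  rcases List.mem_append.mp hW with h | h
  · exact P.cox_val W h
  · refine (P.words_iff P.Gp _ P.sq_val).mp (fun r hr => ?_) W h
    rw [P.lift_of]
    exact PresentedGroup.one_of_mem (Or.inr hr)

theorem closure_val : Subgroup.closure (P.val '' Set.Iio P.gens.length) = ⊤ := by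
  rw [eq_top_iff, ← PresentedGroup.closure_range_of]
  apply Subgroup.closure_mono
  rintro _ ⟨x, rfl⟩
  obtain ⟨i, hi, rfl⟩ := List.getElem_of_mem (P.all_gens x)
  exact ⟨i, hi, letterVal_of_lt _ _ hi⟩

theorem kills {A : Type} [Group A] (v : α → A)
    (h : ∀ W ∈ P.relWords, evalWord (letterVal P.gens v) W = 1) :
    ∀ r ∈ coxRelators P.edges ∪ {r | r ∈ P.extra}, FreeGroup.lift v r = 1 := by
  have hcox : ∀ W ∈ coxWords P.edges P.gens, evalWord (letterVal P.gens v) W = 1 :=
    fun W hW => h W (List.mem_append_left _ hW)
  rintro r (hr | hr)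
  · exact coxRelators_one P.edges P.gens v P.all_gens hcox r hr
  · exact (P.words_iff A v fun x => sq_of_coxWords P.edges P.gens v hcox (P.all_gens x)).mpr
      (fun W hW => h W (List.mem_append_right _ hW)) r hr

/-- Words in the sub-alphabet `sel` (a list of global letters). -/
def subVal (sel : List ℕ) (l : ℕ) : P.Gp :=
  match sel[l]? with
  | some g => P.val g
  | none => 1

theorem evalWord_subVal (sel : List ℕ) : ∀ {W : List ℕ}, (∀ l ∈ W, l < sel.length) →
    evalWord (P.subVal sel) W = evalWord P.val (W.map fun l => sel.getD l 0)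
  | [], _ => rfl
  | l :: ls, h => by
    have hl := h l List.mem_cons_self
    show P.subVal sel l * evalWord (P.subVal sel) ls = P.val (sel.getD l 0) * evalWord P.val _
    rw [evalWord_subVal sel (fun x hx => h x (List.mem_cons_of_mem _ hx))]
    congr 1
    simp [subVal, List.getElem?_eq_getElem hl]

/-- The subgroup generated by some global letters. -/
def sub (sel : List ℕ) : Subgroup P.Gp := Subgroup.closure (P.subVal sel '' Set.Iio sel.length)

/-- The relators of a local alphabet really are relators. -/
def checkLocal (sel : List ℕ) (rels : List (List ℕ)) : Bool :=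
  sel.all (fun g => Nat.blt g P.gens.length) &&
  rels.all fun W => W.all (fun l => Nat.blt l sel.length) &&
    decide (W.map (fun l => sel.getD l 0) ∈ P.relWords)

theorem local_rels {sel : List ℕ} {rels : List (List ℕ)} (h : P.checkLocal sel rels = true) :
    ∀ W ∈ rels, evalWord (P.subVal sel) W = 1 := by
  intro W hW
  rw [checkLocal, Bool.and_eq_true, List.all_eq_true, List.all_eq_true] at h
  have := h.2 W hW
  rw [Bool.and_eq_true, List.all_eq_true, decide_eq_true_eq] at this
  rw [P.evalWord_subVal sel (fun l hl => Nat.le_of_ble_eq_true (this.1 l hl))]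
  exact P.rel_val _ this.2

theorem subLetters {S : Sys} {sel : List ℕ} (hnl : S.nl = sel.length)
    (hinv : allRange (fun l => Nat.beq (S.inv l) l) 0 (S.nl + 1) = true)
    (hsel : ∀ g ∈ sel, g < P.gens.length) : Letters S (P.subVal sel) where
  ident := by simp [subVal, hnl]
  inv l hl := by
    rw [Nat.eq_of_beq_eq_true (allRange_spec hinv l (Nat.zero_le _) (by omega))]
    symm
    apply inv_eq_of_mul_eq_one_right
    rw [subVal]
    cases hs : sel[l]? with
    | none => simp
    | some g =>
      have hg := hsel g (List.mem_of_getElem? hs)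
      show P.val g * P.val g = 1
      rw [InvPres.val, letterVal_of_lt _ _ hg]
      exact P.sq_val _

/-- A certificate bounds a relative index. -/
theorem relIndex_le {S : Sys} {n D N : ℕ} (C : Cert S n D N) {sel : List ℕ}
    (hnl : S.nl = sel.length)
    (hinv : allRange (fun l => Nat.beq (S.inv l) l) 0 (S.nl + 1) = true)
    {rels subs : List (List ℕ)} (hloc : P.checkLocal sel rels = true)
    (hrules : S.rules.all (fun R => R.check S rels subs) = true) {K : Subgroup P.Gp}
    (hK : ∀ W ∈ subs, evalWord (P.subVal sel) W ∈ K) :
    K.relIndex (P.sub sel) ≠ 0 ∧ K.relIndex (P.sub sel) ≤ n := by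
  have hsel : ∀ g ∈ sel, g < P.gens.length := by
    rw [checkLocal, Bool.and_eq_true, List.all_eq_true] at hloc
    exact fun g hg => Nat.le_of_ble_eq_true (hloc.1 g hg)
  have hL := P.subLetters hnl hinv hsel
  refine C.relIndex_le hL (by rw [sub, hnl]) fun i => ?_
  exact hL.valid (P.local_rels hloc) hK (DTree.all_get hrules i)

theorem sub_all (sel : List ℕ) (h : sel = List.range P.gens.length) : P.sub sel = ⊤ := by
  rw [sub, ← P.closure_val]
  subst h
  rw [List.length_range]
  congr 1
  refine Set.image_congr fun l (hl : l < P.gens.length) => ?_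
  simp [subVal, List.getElem?_range hl]

end InvPres

end Cfsg.Agent.CosetEnum
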