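import Cfsg.Agent.Lib.CosetEnum.Chain

/-!
Alphabets whose letters are words, and certificates proving single relations.
-/

set_option autoImplicit false

namespace Cfsg.Agent.CosetEnum

/-- Spell a word over a local alphabet in the global letters. -/
def expand (loc : List (List ℕ)) : List ℕ → List ℕ
  | [] => []
  | l :: ls => loc.getD l [] ++ expand loc ls

/-- The value of a local letter. -/
def locVal {G : Type} [Group G] (val : ℕ → G) (loc : List (List ℕ)) (l : ℕ) : G :=
  evalWord val (loc.getD l [])

theorem evalWord_locVal {G : Type} [Group G] (val : ℕ → G) (loc : List (List ℕ)) :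
    ∀ W : List ℕ, evalWord (locVal val loc) W = evalWord val (expand loc W)
  | [] => rfl
  | l :: ls => by
    rw [expand, evalWord_append, ← evalWord_locVal val loc ls]
    rfl

/-- A certificate that a word is trivial. -/
theorem relation_of_cert {G : Type} [Group G] {S : Sys} {val : ℕ → G} (hL : Letters S val)
    {rels : List (List ℕ)} (hrels : ∀ W ∈ rels, evalWord val W = 1)
    (hrules : S.rules.all (fun R => R.check S rels []) = true)
    (dcs : List ℕ) {D N : ℕ} (fcs : List (ℕ × ℕ)) (hd : S.DefsOK 0 dcs) (hds : dcs.sum = D)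
    (hf : S.FactsOK D fcs) (hfs : D + (fcs.map Prod.fst).sum = N)
    {W : List ℕ} {L v v' : ℕ} (hw : S.walk N L v 0 W = some (0, v')) : evalWord val W = 1 := by
  have hA := hL.isAction (⊥ : Subgroup G)
  obtain ⟨f, h0, hdef⟩ := S.exists_map (cosetAct val (⊥ : Subgroup G)) (((1 : G) : G ⧸ (⊥ : Subgroup G)))
    (D := D) fun k hk => hd.spec k (Nat.zero_le _) (by omega)
  have hR : ∀ i, (S.rules.get i).Valid (cosetAct val (⊥ : Subgroup G)) (f 0) := fun i => by
    rw [h0]
    exact hL.valid hrels (subs := []) (fun W hW => absurd hW List.not_mem_nil) (DTree.all_get hrules i)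
  have hfacts := hf.spec hA hR hdef
  have h := S.walk_spec hA (f := f) (k := N) (fun k hk => hfacts k (by omega)) hw
  rw [h0, run_cosetAct, MulAction.Quotient.smul_coe, QuotientGroup.eq, smul_eq_mul, mul_one,
    mul_one, inv_inv, Subgroup.mem_bot] at h
  exact h

namespace InvPres

variable {α : Type} [DecidableEq α] (P : InvPres α)

theorem mainLetters {S : Sys} (hnl : S.nl = P.gens.length)
    (hinv : allRange (fun l => Nat.beq (S.inv l) l) 0 (S.nl + 1) = true) : Letters S P.val where
  ident := by simp [InvPres.val, letterVal, hnl]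
  inv l hl := by
    rw [Nat.eq_of_beq_eq_true (allRange_spec hinv l (Nat.zero_le _) (by omega))]
    symm
    apply inv_eq_of_mul_eq_one_right
    rcases Nat.lt_or_ge l P.gens.length with h | h
    · rw [InvPres.val, letterVal_of_lt _ _ h]
      exact P.sq_val _
    · simp [InvPres.val, letterVal, List.getElem?_eq_none_iff.mpr h]

/-- The subgroup generated by some words. -/
def wsub (loc : List (List ℕ)) : Subgroup P.Gp :=
  Subgroup.closure {g | ∃ W ∈ loc, evalWord P.val W = g}

theorem locLetters {S : Sys} {loc : List (List ℕ)} (hnl : S.nl = loc.length)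
    (hinv : allRange (fun l => Nat.beq (S.inv l) l) 0 (S.nl + 1) = true)
    (hsq : ∀ W ∈ loc, evalWord P.val (W ++ W) = 1) : Letters S (locVal P.val loc) where
  ident := by rw [locVal, hnl, List.getD_eq_default _ _ le_rfl]; rfl
  inv l hl := by
    rw [Nat.eq_of_beq_eq_true (allRange_spec hinv l (Nat.zero_le _) (by omega))]
    symm
    apply inv_eq_of_mul_eq_one_right
    rcases Nat.lt_or_ge l loc.length with h | h
    · rw [locVal, List.getD_eq_getElem _ _ h, ← evalWord_append]
      exact hsq _ (List.getElem_mem h)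
    · rw [locVal, List.getD_eq_default _ _ h]
      exact mul_one _

/-- A certificate over a local alphabet bounds a relative index. -/
theorem relIndex_le_loc {S : Sys} {n D N : ℕ} (C : Cert S n D N) {loc : List (List ℕ)}
    (hnl : S.nl = loc.length)
    (hinv : allRange (fun l => Nat.beq (S.inv l) l) 0 (S.nl + 1) = true)
    (hsq : ∀ W ∈ loc, evalWord P.val (W ++ W) = 1)
    {rels subs : List (List ℕ)} (hrels : ∀ W ∈ rels, evalWord P.val (expand loc W) = 1)
    (hrules : S.rules.all (fun R => R.check S rels subs) = true) {K : Subgroup P.Gp}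
    (hK : ∀ W ∈ subs, evalWord P.val (expand loc W) ∈ K) :
    K.relIndex (P.wsub loc) ≠ 0 ∧ K.relIndex (P.wsub loc) ≤ n := by
  have hL := P.locLetters hnl hinv hsq
  refine C.relIndex_le hL ?_ fun i => ?_
  · apply Subgroup.closure_mono
    rintro g ⟨W, hW, rfl⟩
    obtain ⟨l, hl, rfl⟩ := List.getElem_of_mem hW
    exact ⟨l, (show l < S.nl by omega), by rw [locVal, List.getD_eq_getElem _ _ hl]⟩
  · exact hL.valid (fun W hW => (evalWord_locVal P.val loc W).trans (hrels W hW))
      (fun W hW => by rw [evalWord_locVal]; exact hK W hW) (DTree.all_get hrules i)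

theorem wsub_mono {loc loc' : List (List ℕ)} (h : loc ⊆ loc') : P.wsub loc ≤ P.wsub loc' :=
  Subgroup.closure_mono fun _ ⟨W, hW, hg⟩ => ⟨W, h hW, hg⟩

theorem evalWord_mem_wsub (loc : List (List ℕ)) : ∀ W : List ℕ,
    evalWord P.val (expand loc W) ∈ P.wsub loc
  | [] => one_mem _
  | l :: ls => by
    rw [expand, evalWord_append]
    refine mul_mem ?_ (evalWord_mem_wsub loc ls)
    rcases Nat.lt_or_ge l loc.length with h | h
    · rw [List.getD_eq_getElem _ _ h]
      exact Subgroup.subset_closure ⟨_, List.getElem_mem h, rfl⟩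
    · rw [List.getD_eq_default _ _ h]
      exact one_mem _

theorem wsub_le_stab {T : Tbl} (R : P.Rep T) (hnd : P.gens.Nodup) (loc : List (List ℕ))
    (h : loc.all (fun W => W.all (fun l => Nat.blt l T.nl) && Nat.beq (T.run W 0) 0) = true) :
    P.wsub loc ≤ R.stab hnd := by
  rw [wsub, Subgroup.closure_le]
  rintro g ⟨W, hW, rfl⟩
  simp only [List.all_eq_true, Bool.and_eq_true] at h
  rw [SetLike.mem_coe, ← inv_mem_iff, R.mem_stab, map_inv]
  apply Fin.ext
  rw [R.hom_inv_apply hnd (fun l hl => Nat.le_of_ble_eq_true ((h W hW).1 l hl))]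
  exact Nat.eq_of_beq_eq_true (h W hW).2

end InvPres

end Cfsg.Agent.CosetEnum
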