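import Cfsg.Agent.Lib.CosetEnum.Local
import Mathlib.GroupTheory.GroupAction.Quotient

/-!
Certificates in any group with a valuation of the letters, and lower bounds from orbits.
-/

set_option autoImplicit false

namespace Cfsg.Agent.CosetEnum.Glue

variable {G : Type} [Group G]

/-- The subgroup generated by some letters. -/
def gsub (val : ℕ → G) (ls : List ℕ) : Subgroup G := Subgroup.closure {g | g ∈ ls.map val}

theorem gsub_mono (val : ℕ → G) {ls ls' : List ℕ} (h : ls ⊆ ls') : gsub val ls ≤ gsub val ls' :=
  Subgroup.closure_mono fun _ hg => List.map_subset _ h hg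

theorem evalWord_mem_gsub (val : ℕ → G) (ls : List ℕ) : ∀ V : List ℕ, (∀ x ∈ V, x ∈ ls) →
    evalWord val V ∈ gsub val ls
  | [], _ => one_mem _
  | x :: V, h => mul_mem (Subgroup.subset_closure (List.mem_map_of_mem (h x List.mem_cons_self)))
      (evalWord_mem_gsub val ls V fun y hy => h y (List.mem_cons_of_mem _ hy))

theorem evalWord_getD (val : ℕ → G) (ls : List ℕ) : ∀ W : List ℕ, (∀ l ∈ W, l < ls.length) →
    evalWord (fun l => (ls.map val).getD l 1) W = evalWord val (W.map fun l => ls.getD l 0)
  | [], _ => rfl
  | l :: W, h => by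
    have hl := h l List.mem_cons_self
    show (ls.map val).getD l 1 * _ = val (ls.getD l 0) * _
    rw [evalWord_getD val ls W fun x hx => h x (List.mem_cons_of_mem _ hx),
      List.getD_eq_getElem _ _ (by simpa using hl), List.getElem_map, List.getD_eq_getElem _ _ hl]

theorem evalWord_hom {H : Type} [Group H] (f : G →* H) (val : ℕ → G) :
    ∀ W : List ℕ, f (evalWord val W) = evalWord (fun l => f (val l)) W
  | [] => f.map_one
  | l :: ls => by
    show f (val l * evalWord val ls) = f (val l) * evalWord _ ls
    rw [map_mul, evalWord_hom f val ls]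

/-- A certificate bounds a relative index of subgroups generated by letters. -/
theorem relIndex_le {S : Sys} {n D N : ℕ} (C : Cert S n D N) (val : ℕ → G) {R : List (List ℕ)}
    (hR : ∀ W ∈ R, evalWord val W = 1) (ls : List ℕ) (hnl : S.nl = ls.length)
    (hinv : allRange (fun l => Nat.beq (S.inv l) l) 0 (S.nl + 1) = true)
    (hsq : ls.all (fun l => decide ([l, l] ∈ R)) = true) {rels subs : List (List ℕ)}
    (hrels : rels.all (fun W => W.all (fun l => Nat.blt l ls.length) &&
      decide (W.map (fun l => ls.getD l 0) ∈ R)) = true)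
    (hrules : S.rules.all (fun r => r.check S rels subs) = true) (ls' : List ℕ)
    (hsubs : subs.all (fun W => W.all fun l => Nat.blt l ls.length && decide (ls.getD l 0 ∈ ls'))
      = true) :
    (gsub val ls').relIndex (gsub val ls) ≠ 0 ∧ (gsub val ls').relIndex (gsub val ls) ≤ n := by
  have hL : Letters S (fun l => (ls.map val).getD l 1) :=
    { ident := by simp [hnl]
      inv := fun l hl => by
        rw [Nat.eq_of_beq_eq_true (allRange_spec hinv l (Nat.zero_le _) (by omega))]
        symm
        apply inv_eq_of_mul_eq_one_right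
        rcases Nat.lt_or_ge l ls.length with h | h
        · rw [List.getD_eq_getElem _ _ (by simpa using h), List.getElem_map]
          have := hR [ls[l], ls[l]]
            (of_decide_eq_true (List.all_eq_true.mp hsq _ (List.getElem_mem h)))
          simpa [evalWord] using this
        · rw [List.getD_eq_default _ _ (by simpa using h)]
          exact one_mul 1 }
  refine C.relIndex_le hL ?_ fun i => hL.valid ?_ ?_ (DTree.all_get hrules i)
  · apply Subgroup.closure_mono
    intro g hg
    obtain ⟨l, hl, rfl⟩ := List.getElem_of_mem (show g ∈ ls.map val from hg)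
    rw [List.length_map] at hl
    exact ⟨l, (show l < S.nl by omega), List.getD_eq_getElem _ _ (by simpa using hl)⟩
  · intro W hW
    simp only [List.all_eq_true, Bool.and_eq_true, decide_eq_true_eq] at hrels
    rw [evalWord_getD val ls W fun l hl => Nat.le_of_ble_eq_true ((hrels W hW).1 l hl)]
    exact hR _ (hrels W hW).2
  · intro W hW
    simp only [List.all_eq_true, Bool.and_eq_true, decide_eq_true_eq] at hsubs
    rw [evalWord_getD val ls W fun l hl => Nat.le_of_ble_eq_true (hsubs W hW l hl).1]
    refine evalWord_mem_gsub val ls' _ fun x hx => ?_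
    obtain ⟨l, hl, rfl⟩ := List.mem_map.mp hx
    exact (hsubs W hW l hl).2

/-- One step of a lower bound on an order: points of an orbit times a subgroup of a stabiliser. -/
theorem card_step {X : Type*} [MulAction G X] (H : Subgroup G) [Finite H] (b : X) (pts : List X)
    (hn : pts.Nodup) (h : ∀ x ∈ pts, ∃ g ∈ H, g • b = x) :
    pts.length * Nat.card (H ⊓ MulAction.stabilizer G b : Subgroup G) ≤ Nat.card H := by
  classical
  have horb : pts.length ≤ (MulAction.orbit H b).ncard := by
    rw [← List.toFinset_card_of_nodup hn, ← Set.ncard_coe_finset]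
    refine Set.ncard_le_ncard ?_ (Set.finite_range _)
    intro x hx
    obtain ⟨g, hg, hgx⟩ := h x (List.mem_toFinset.mp (Finset.mem_coe.mp hx))
    exact ⟨⟨g, hg⟩, hgx⟩
  have hst : MulAction.stabilizer H b = (H ⊓ MulAction.stabilizer G b).subgroupOf H := by
    ext k
    rw [Subgroup.mem_subgroupOf, Subgroup.mem_inf, MulAction.mem_stabilizer_iff,
      MulAction.mem_stabilizer_iff]
    exact ⟨fun h => ⟨k.2, h⟩, fun h => h.2⟩
  calc pts.length * Nat.card (H ⊓ MulAction.stabilizer G b : Subgroup G)
      ≤ (MulAction.orbit H b).ncard * Nat.card (H ⊓ MulAction.stabilizer G b : Subgroup G) :=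
        Nat.mul_le_mul_right _ horb
    _ = Nat.card H := by
        rw [← MulAction.index_stabilizer, hst,
          ← Nat.card_congr (Subgroup.subgroupOfEquivOfLe
            (inf_le_left : H ⊓ MulAction.stabilizer G b ≤ H)).toEquiv,
          Subgroup.index_mul_card]

end Cfsg.Agent.CosetEnum.Glue
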