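import Mathlib

/-!
Packed read-only arrays for kernel-checked certificates.
-/

set_option autoImplicit false

namespace Cfsg.Agent.CosetEnum

/-- A packed array: the leaves hold fixed-width entries inside one numeral. -/
inductive PTree where
  | leaf (v : ℕ)
  | node (m : ℕ) (l r : PTree)

/-- Apply `f` to the evaluated `n`: forces the kernel to reduce `n` to a numeral first. -/
noncomputable def forceNat {α : Type} (n : ℕ) (f : ℕ → α) : α :=
  Nat.rec (motive := fun _ => α) (f (nat_lit 0)) (fun p _ => f (Nat.succ p)) n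

@[simp] theorem forceNat_eq {α : Type} (n : ℕ) (f : ℕ → α) : forceNat n f = f n := by
  cases n <;> rfl

/-- Recursive lookup. -/
noncomputable def PTree.look (w : ℕ) (t : PTree) : ℕ → ℕ :=
  PTree.rec (motive := fun _ => ℕ → ℕ)
    (fun v i => Nat.land (Nat.shiftRight v (Nat.mul w i)) (Nat.sub (Nat.pow (nat_lit 2) w) (nat_lit 1)))
    (fun m _ _ gl gr i => Bool.rec (motive := fun _ => ℕ) (gr (Nat.sub i m)) (gl i) (Nat.blt i m)) t

/-- The entry number `i` at width `w`. -/
noncomputable def PTree.get (w : ℕ) (t : PTree) (i : ℕ) : ℕ := forceNat i (t.look w)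

/-- A tree of arbitrary data. -/
inductive DTree (α : Type) where
  | leaf (a : α)
  | node (m : ℕ) (l r : DTree α)

/-- The entry number `i`. -/
noncomputable def DTree.get {α : Type} (t : DTree α) : ℕ → α :=
  DTree.rec (motive := fun _ => ℕ → α) (fun a _ => a)
    (fun m _ _ gl gr i => Bool.rec (motive := fun _ => α) (gr (Nat.sub i m)) (gl i) (Nat.blt i m)) t

/-- All leaves satisfy `p`. -/
def DTree.all {α : Type} (p : α → Bool) : DTree α → Bool
  | .leaf a => p a
  | .node _ l r => l.all p && r.all p

theorem DTree.all_get {α : Type} {p : α → Bool} :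
    ∀ {t : DTree α}, t.all p = true → ∀ i, p (t.get i) = true
  | .leaf _, h, _ => h
  | .node m l r, h, i => by
    rw [DTree.all, Bool.and_eq_true] at h
    show p (Bool.rec (motive := fun _ => α) (r.get (Nat.sub i m)) (l.get i) (Nat.blt i m)) = true
    cases Nat.blt i m
    · exact DTree.all_get h.2 _
    · exact DTree.all_get h.1 _

/-- `p a && p (a+1) && ... && p (a+c-1)`. -/
noncomputable def allRange (p : ℕ → Bool) (a c : ℕ) : Bool :=
  Nat.rec (motive := fun _ => ℕ → Bool) (fun _ => true)
    (fun _ ih a => Bool.rec (motive := fun _ => Bool) false (ih (Nat.succ a)) (p a)) c a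

theorem allRange_spec {p : ℕ → Bool} :
    ∀ {a c : ℕ}, allRange p a c = true → ∀ i, a ≤ i → i < a + c → p i = true
  | a, 0, _, i, h1, h2 => by omega
  | a, c + 1, h, i, h1, h2 => by
    change Bool.rec (motive := fun _ => Bool) false (allRange p (a + 1) c) (p a) = true at h
    cases hp : p a with
    | false => rw [hp] at h; exact absurd h (by simp)
    | true =>
      rw [hp] at h
      rcases Nat.eq_or_lt_of_le h1 with rfl | h3
      · exact hp
      · exact allRange_spec h i (by omega) (by omega)

/-- Successive ranges covering `[0, n)`. -/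
theorem forall_lt_of_ranges {P : ℕ → Prop} {n m : ℕ} (h1 : ∀ i < m, P i)
    (h2 : ∀ i, m ≤ i → i < n → P i) : ∀ i < n, P i := fun i hi =>
  if h : i < m then h1 i h else h2 i (not_lt.mp h) hi

end Cfsg.Agent.CosetEnum
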