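import Cfsg.Agent.Lib.CosetEnum.Check

/-!
From a certificate to a bound on the index of `K` in the subgroup generated by the letters.
-/

set_option autoImplicit false

namespace Cfsg.Agent.CosetEnum

variable {G : Type} [Group G]

/-- The value of a word of letters. -/
def evalWord (val : ℕ → G) : List ℕ → G
  | [] => 1
  | l :: ls => val l * evalWord val ls

theorem evalWord_append (val : ℕ → G) : ∀ u v : List ℕ,
    evalWord val (u ++ v) = evalWord val u * evalWord val v
  | [], v => (one_mul _).symm
  | l :: u, v => by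
    show val l * evalWord val (u ++ v) = val l * evalWord val u * evalWord val v
    rw [evalWord_append val u v, mul_assoc]

theorem evalWord_rotate (val : ℕ → G) {W : List ℕ} (h : evalWord val W = 1) (k : ℕ) :
    evalWord val (W.rotate k) = 1 := by
  induction k generalizing W with
  | zero => simpa using h
  | succ k ih =>
    cases W with
    | nil => simpa using h
    | cons a as =>
      rw [List.rotate_cons_succ]
      apply ih
      rw [evalWord_append]
      have h' : val a * evalWord val as = 1 := h
      show evalWord val as * (val a * 1) = 1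
      rw [mul_one]
      exact mul_eq_one_comm.mp h'

/-- `[i, j, i, j, ...]` with `m` repetitions. -/
def repWord (u : List ℕ) : ℕ → List ℕ
  | 0 => []
  | m + 1 => u ++ repWord u m

theorem evalWord_repWord (val : ℕ → G) (u : List ℕ) : ∀ m,
    evalWord val (repWord u m) = evalWord val u ^ m
  | 0 => by simp [repWord, evalWord]
  | m + 1 => by rw [repWord, evalWord_append, evalWord_repWord val u m, ← pow_succ']

/-- The loop of a rule. -/
def Rule.loop (S : Sys) (R : Rule) : List ℕ :=
  R.u ++ (bif Nat.beq R.l S.nl then [] else [R.l]) ++ R.w.reverse.map S.inv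

/-- The source of a rule: a relator up to rotation, or a word fixing the base point. -/
def Rule.check (S : Sys) (rels subs : List (List ℕ)) (R : Rule) : Bool :=
  Nat.ble R.l S.nl && R.w.all (fun l => Nat.ble l S.nl) &&
  (bif R.rooted then decide (R.loop S ∈ subs)
    else decide (R.loop S = (rels.getD R.rel []).rotate R.rot))

/-- The action on cosets used by certificates. -/
def cosetAct (val : ℕ → G) (K : Subgroup G) (l : ℕ) (q : G ⧸ K) : G ⧸ K := (val l)⁻¹ • q

theorem run_cosetAct (val : ℕ → G) (K : Subgroup G) : ∀ (W : List ℕ) (q : G ⧸ K),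
    run (cosetAct val K) W q = (evalWord val W)⁻¹ • q
  | [], q => by
    show q = (1 : G)⁻¹ • q
    rw [inv_one, one_smul]
  | l :: ls, q => by
    show run _ ls ((val l)⁻¹ • q) = (val l * evalWord val ls)⁻¹ • q
    rw [run_cosetAct val K ls, mul_inv_rev, mul_smul]

/-- The hypotheses relating letters to the group. -/
structure Letters (S : Sys) (val : ℕ → G) : Prop where
  ident : val S.nl = 1
  inv : ∀ l ≤ S.nl, val (S.inv l) = (val l)⁻¹

theorem Letters.isAction {S : Sys} {val : ℕ → G} (hL : Letters S val) (K : Subgroup G) :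
    S.IsAction (cosetAct val K) where
  ident q := by
    show (val S.nl)⁻¹ • q = q
    rw [hL.ident, inv_one, one_smul]
  cancel l hl q := by
    show (val (S.inv l))⁻¹ • (val l)⁻¹ • q = q
    rw [hL.inv l hl, inv_inv, smul_inv_smul]

theorem Letters.evalWord_invrev {S : Sys} {val : ℕ → G} (hL : Letters S val) :
    ∀ W : List ℕ, (∀ l ∈ W, l ≤ S.nl) →
      evalWord val (W.reverse.map S.inv) = (evalWord val W)⁻¹
  | [], _ => by simp [evalWord]
  | l :: ls, h => by
    rw [List.reverse_cons, List.map_append, evalWord_append,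
      hL.evalWord_invrev ls (fun x hx => h x (List.mem_cons_of_mem _ hx))]
    show _ * (val (S.inv l) * 1) = (val l * evalWord val ls)⁻¹
    rw [mul_one, hL.inv l (h l List.mem_cons_self), mul_inv_rev]

theorem Letters.valid {S : Sys} {val : ℕ → G} (hL : Letters S val) {K : Subgroup G}
    {rels subs : List (List ℕ)} (hrels : ∀ W ∈ rels, evalWord val W = 1)
    (hsubs : ∀ W ∈ subs, evalWord val W ∈ K) {R : Rule} (h : R.check S rels subs = true) :
    R.Valid (cosetAct val K) (((1 : G) : G ⧸ K)) := by
  rw [Rule.check, Bool.and_eq_true, Bool.and_eq_true, List.all_eq_true] at h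
  obtain ⟨⟨hl, hw⟩, hsrc⟩ := h
  have hbody : evalWord val (R.loop S) = evalWord val R.u * val R.l * (evalWord val R.w)⁻¹ := by
    rw [Rule.loop, evalWord_append, evalWord_append,
      hL.evalWord_invrev R.w (fun l hl' => Nat.le_of_ble_eq_true (hw l hl'))]
    cases hE : Nat.beq R.l S.nl with
    | true =>
      rw [cond_true, Nat.eq_of_beq_eq_true hE, hL.ident]
      rfl
    | false =>
      rw [cond_false]
      show evalWord val R.u * (val R.l * 1) * _ = _
      rw [mul_one]
  intro x hx
  rw [run_cosetAct, run_cosetAct]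
  show (val R.l)⁻¹ • (evalWord val R.u)⁻¹ • x = (evalWord val R.w)⁻¹ • x
  rw [smul_smul, ← mul_inv_rev]
  cases hroot : R.rooted with
  | false =>
    rw [hroot, cond_false, decide_eq_true_eq] at hsrc
    have hone : evalWord val (R.loop S) = 1 := by
      rw [hsrc]
      apply evalWord_rotate
      rcases Nat.lt_or_ge R.rel rels.length with h | h
      · rw [List.getD_eq_getElem _ _ h]
        exact hrels _ (List.getElem_mem h)
      · rw [List.getD_eq_default _ _ h]
        rfl
    rw [hbody, mul_inv_eq_one] at hone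
    rw [hone]
  | true =>
    rw [hroot, cond_true, decide_eq_true_eq] at hsrc
    have hK := hsubs _ hsrc
    rw [hbody] at hK
    rw [hx hroot, MulAction.Quotient.smul_coe, MulAction.Quotient.smul_coe, QuotientGroup.eq,
      smul_eq_mul, smul_eq_mul, mul_one, mul_one, inv_inv]
    exact hK

/-- The certificate bounds the orbit of the base coset under the letters. -/
theorem Cert.relIndex_le {S : Sys} {n D N : ℕ} (C : Cert S n D N) {val : ℕ → G}
    (hL : Letters S val) {H K : Subgroup G} (hH : H ≤ Subgroup.closure (val '' Set.Iio S.nl))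
    (hR : ∀ i, (S.rules.get i).Valid (cosetAct val K) (((1 : G) : G ⧸ K))) :
    K.relIndex H ≠ 0 ∧ K.relIndex H ≤ n := by
  obtain ⟨f, h0, hclosed⟩ := C.closed (hL.isAction K) _ hR
  let O : Set (G ⧸ K) := f '' Set.Iio n
  have hmaps : ∀ l < S.nl, Set.MapsTo (fun q : G ⧸ K => (val l)⁻¹ • q) O O := by
    rintro l hl _ ⟨i, hi, rfl⟩
    obtain ⟨j, hj, hij⟩ := hclosed i hi l hl
    exact ⟨j, hj, hij.symm⟩
  have hfin : O.Finite := (Set.finite_Iio n).image f
  have hstab : ∀ g ∈ Subgroup.closure (val '' Set.Iio S.nl), ∀ q ∈ O, g • q ∈ O ∧ g⁻¹ • q ∈ O := by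
    intro g hg
    induction hg using Subgroup.closure_induction with
    | mem x hx =>
      obtain ⟨l, hl, rfl⟩ := hx
      intro q hq
      refine ⟨?_, hmaps l hl hq⟩
      obtain ⟨p, hp, hpq⟩ := ((hfin.injOn_iff_bijOn_of_mapsTo (hmaps l hl)).mp
        (MulAction.injective _).injOn).surjOn hq
      rw [← hpq, smul_inv_smul]
      exact hp
    | one => intro q hq; simpa using hq
    | mul a b _ _ ha hb =>
      intro q hq
      rw [mul_smul, mul_inv_rev, mul_smul]
      exact ⟨(ha _ (hb q hq).1).1, (hb _ (ha q hq).2).2⟩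
    | inv a _ ha =>
      intro q hq
      rw [inv_inv]
      exact ⟨(ha q hq).2, (ha q hq).1⟩
  let x₀ : G ⧸ K := ((1 : G) : G ⧸ K)
  have horb : MulAction.orbit H x₀ ⊆ O := by
    rintro _ ⟨h, rfl⟩
    exact (hstab _ (hH h.2) x₀ ⟨0, C.pos, h0⟩).1
  have hst : MulAction.stabilizer H x₀ = K.subgroupOf H := by
    ext g
    rw [Subgroup.mem_subgroupOf, MulAction.mem_stabilizer_iff]
    show (g : G) • (((1 : G) : G ⧸ K)) = _ ↔ _
    rw [MulAction.Quotient.smul_coe, QuotientGroup.eq, smul_eq_mul, mul_one, mul_one,
      inv_mem_iff]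
  have hidx : K.relIndex H = (MulAction.orbit H x₀).ncard := by
    rw [← MulAction.index_stabilizer, hst]
    rfl
  rw [hidx]
  refine ⟨Set.ncard_ne_zero_of_mem (MulAction.mem_orbit_self x₀) (hfin.subset horb), ?_⟩
  calc (MulAction.orbit H x₀).ncard ≤ O.ncard := Set.ncard_le_ncard horb hfin
    _ ≤ (Set.Iio n).ncard := Set.ncard_image_le (Set.finite_Iio n)
    _ = n := by rw [← Finset.coe_Iio, Set.ncard_coe_finset, Nat.card_Iio]

end Cfsg.Agent.CosetEnum
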