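import Cfsg.Agent.Lib.CosetEnum.Order

/-!
A lower bound on an order that keeps track of the pointwise stabiliser of the base.
-/

set_option autoImplicit false

namespace Cfsg.Agent.CosetEnum.InvPres.Rep

variable {α : Type} [DecidableEq α] {P : InvPres α} {T : Tbl} (R : P.Rep T) (hnd : P.gens.Nodup)

theorem lower_base {S : Slp} (hS : ∀ i < T.n, S.checkPoint T i = true) :
    ∀ (Ls : List Level) (prev : List ℕ), checkLevels S T prev Ls = true →
      ∀ H : Subgroup (Equiv.Perm (Fin T.n)),
        (∀ g : P.Gp, (∀ p ∈ prev, ∀ i : Fin T.n, (i : ℕ) = p → (R.hom hnd g) i = i) →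
          R.hom hnd g ∈ H) → ∀ K : Subgroup (Equiv.Perm (Fin T.n)), K ≤ H →
        (∀ k ∈ K, ∀ L ∈ Ls, ∀ i : Fin T.n, (i : ℕ) = L.b → k i = i) →
        (Ls.map Level.size).prod * Nat.card K ≤ Nat.card H := by
  intro Ls
  induction Ls with
  | nil =>
    intro _ _ H _ K hK _
    rw [List.map_nil, List.prod_nil, one_mul]
    exact Nat.le_of_dvd Nat.card_pos (Subgroup.card_dvd_of_le hK)
  | cons L Ls ih =>
    intro prev h H hH K hK hKfix
    simp only [checkLevels, Bool.and_eq_true] at h
    obtain ⟨⟨⟨⟨hb, hgens⟩, hpts⟩, hcnt⟩, hrest⟩ := h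
    let b : Fin T.n := ⟨L.b, Nat.le_of_ble_eq_true hb⟩
    have hgen : ∀ j ∈ L.gens, ∃ k ∈ H, ∀ i : Fin T.n, ((k i : Fin T.n) : ℕ) = S.tbl.at' i j := by
      intro j hj
      rw [List.all_eq_true] at hgens
      have := hgens j hj
      rw [Bool.and_eq_true, List.all_eq_true] at this
      obtain ⟨g, hg⟩ := R.slp_elements hnd hS j (Nat.le_of_ble_eq_true this.1)
      refine ⟨(R.hom hnd g)⁻¹, inv_mem (hH g fun p hp i hip => ?_), hg⟩
      have hfix : (R.hom hnd g)⁻¹ i = i := by
        apply Fin.ext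
        rw [hg, hip]
        exact Nat.eq_of_beq_eq_true (this.2 p hp)
      rw [Equiv.Perm.inv_eq_iff_eq] at hfix
      exact hfix.symm
    have hreach : ∀ m : ℕ, ∀ i : Fin T.n, L.getRank i ≤ m → L.getRank i < 65535 →
        ∃ k ∈ H, k i = b := by
      intro m
      induction m using Nat.strong_induction_on with
      | _ m ihm =>
        intro i him hi
        have hp := allRange_spec hpts i (Nat.zero_le _) (by omega)
        have hblt : Nat.blt (L.getRank i) 65535 = true := Nat.ble_eq_true_of_le hi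
        rw [Level.checkPoint, hblt, cond_true, Bool.or_eq_true, List.any_eq_true] at hp
        rcases hp with hp | ⟨j, hj, hp⟩
        · exact ⟨1, one_mem H, Fin.ext (Nat.eq_of_beq_eq_true hp)⟩
        · obtain ⟨k, hk, hkv⟩ := hgen j hj
          have hr : L.getRank (k i) < L.getRank i := by
            rw [hkv]
            exact Nat.le_of_ble_eq_true hp
          obtain ⟨k', hk', hk'v⟩ := ihm _ (lt_of_lt_of_le hr him) (k i) le_rfl (hr.trans hi)
          exact ⟨k' * k, mul_mem hk' hk, by rw [Equiv.Perm.mul_apply, hk'v]⟩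
    have horb : L.size ≤ (MulAction.orbit H b).ncard := by
      refine le_trans (Nat.le_of_ble_eq_true hcnt) ?_
      rw [← ncard_fin_filter T.n (fun i => Nat.blt (L.getRank i) 65535)]
      refine Set.ncard_le_ncard (fun i hi => ?_)
      obtain ⟨k, hk, hki⟩ := hreach _ i le_rfl (Nat.le_of_ble_eq_true hi)
      exact ⟨⟨k⁻¹, inv_mem hk⟩, by show k⁻¹ b = i; rw [Equiv.Perm.inv_eq_iff_eq, hki]⟩
    have hrest' := ih (L.b :: prev) hrest
      (H ⊓ MulAction.stabilizer (Equiv.Perm (Fin T.n)) b) (fun g hg => by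
        refine ⟨hH g (fun p hp => hg p (List.mem_cons_of_mem _ hp)), ?_⟩
        exact hg L.b List.mem_cons_self b rfl) K
      (fun k hk => ⟨hK hk, hKfix k hk L List.mem_cons_self b rfl⟩)
      (fun k hk L' hL' => hKfix k hk L' (List.mem_cons_of_mem _ hL'))
    have hstab : MulAction.stabilizer H b =
        (H ⊓ MulAction.stabilizer (Equiv.Perm (Fin T.n)) b).subgroupOf H := by
      ext k
      rw [Subgroup.mem_subgroupOf, Subgroup.mem_inf, MulAction.mem_stabilizer_iff,
        MulAction.mem_stabilizer_iff]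
      exact ⟨fun h => ⟨k.2, h⟩, fun h => h.2⟩
    calc ((L :: Ls).map Level.size).prod * Nat.card K
        = L.size * ((Ls.map Level.size).prod * Nat.card K) := by simp [mul_assoc]
      _ ≤ (MulAction.orbit H b).ncard *
          Nat.card (H ⊓ MulAction.stabilizer (Equiv.Perm (Fin T.n)) b : Subgroup _) :=
        Nat.mul_le_mul horb hrest'
      _ = Nat.card H := by
        rw [← MulAction.index_stabilizer, hstab,
          ← Nat.card_congr (Subgroup.subgroupOfEquivOfLe
            (inf_le_left : H ⊓ MulAction.stabilizer (Equiv.Perm (Fin T.n)) b ≤ H)).toEquiv,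
          Subgroup.index_mul_card]

/-- An element fixing the base is trivial when the levels give the full order. -/
theorem eq_one_of_base [Finite P.Gp] {S : Slp} (hS : ∀ i < T.n, S.checkPoint T i = true)
    {Ls : List Level} (hL : checkLevels S T [] Ls = true)
    (hN : Nat.card P.Gp = (Ls.map Level.size).prod) (hinj : Function.Injective (R.hom hnd))
    {g : P.Gp} (hg : ∀ L ∈ Ls, ∀ i : Fin T.n, (i : ℕ) = L.b → R.hom hnd g i = i) : g = 1 := by
  have hfix : ∀ k ∈ Subgroup.zpowers (R.hom hnd g), ∀ L ∈ Ls, ∀ i : Fin T.n, (i : ℕ) = L.b →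
      k i = i := by
    rintro k ⟨m, rfl⟩ L hLm i hi
    exact Function.IsFixedPt.perm_zpow (hg L hLm i hi) m
  have h := R.lower_base hnd hS Ls [] hL (R.hom hnd).range (fun x _ => ⟨x, rfl⟩)
    (Subgroup.zpowers (R.hom hnd g)) (Subgroup.zpowers_le.mpr ⟨g, rfl⟩) hfix
  have h1 : Nat.card (R.hom hnd).range ≤ Nat.card P.Gp :=
    Nat.card_le_card_of_surjective _ (R.hom hnd).rangeRestrict_surjective
  rw [← hN] at h
  have h2 : 0 < Nat.card P.Gp := Nat.card_pos
  have h3 : Nat.card (Subgroup.zpowers (R.hom hnd g)) ≤ 1 :=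
    Nat.le_of_mul_le_mul_left (by rw [mul_one]; exact h.trans h1) h2
  have h4 : Subgroup.zpowers (R.hom hnd g) = ⊥ := Subgroup.eq_bot_of_card_le _ h3
  rw [Subgroup.zpowers_eq_bot] at h4
  exact hinj (h4.trans (map_one _).symm)

end Cfsg.Agent.CosetEnum.InvPres.Rep
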