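import Cfsg.Agent.Lib.CosetEnum.Pack

/-!
Checker for coset-enumeration certificates.

Letters are `0, ..., nl - 1`; the letter `nl` stands for the identity.
A fact `(s, l, d)` says `act l (f s) = f d` for the node map `f`.
-/

set_option autoImplicit false

namespace Cfsg.Agent.CosetEnum

/-- A derivation rule: `act l` maps the end of `u` to the end of `w`. -/
structure Rule where
  l : ℕ
  u : List ℕ
  w : List ℕ
  rooted : Bool
  rel : ℕ
  rot : ℕ

/-- The static data of an enumeration. -/
structure Sys where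
  nl : ℕ
  invs : ℕ
  facts : PTree
  rules : DTree Rule

def Sys.inv (S : Sys) (l : ℕ) : ℕ := Nat.land (Nat.shiftRight S.invs (5 * l)) 31

def fSrc (e : ℕ) : ℕ := Nat.land e 1048575
def fDst (e : ℕ) : ℕ := Nat.land (Nat.shiftRight e 20) 1048575
def fLet (e : ℕ) : ℕ := Nat.shiftRight e 40

noncomputable def Sys.fact (S : Sys) (k : ℕ) : ℕ := S.facts.get 45 k

/-- One step of a walk: with the oriented fact in hand. -/
noncomputable def stepTo (E : ℕ) (x a l b : ℕ) (wd : List ℕ) : Option (ℕ × List ℕ) :=
  bif Nat.beq a x then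
    bif Nat.beq l E then some (b, wd)
    else match wd with
      | [] => none
      | c :: cs => bif Nat.beq c l then some (b, cs) else none
  else none

noncomputable def Sys.step (S : Sys) (k x r : ℕ) (wd : List ℕ) : Option (ℕ × List ℕ) :=
  bif Nat.blt (Nat.shiftRight r 1) k then
    bif Nat.beq (Nat.land r 1) 0 then
      stepTo S.nl x (fSrc (S.fact (Nat.shiftRight r 1))) (fLet (S.fact (Nat.shiftRight r 1)))
        (fDst (S.fact (Nat.shiftRight r 1))) wd
    else
      stepTo S.nl x (fDst (S.fact (Nat.shiftRight r 1)))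
        (S.inv (fLet (S.fact (Nat.shiftRight r 1))))
        (fSrc (S.fact (Nat.shiftRight r 1))) wd
  else none

/-- Follow `L` fact references from the stream `v`, spelling `wd`. -/
noncomputable def Sys.walk (S : Sys) (k : ℕ) : ℕ → ℕ → ℕ → List ℕ → Option (ℕ × ℕ)
  | 0, v, x, [] => some (x, v)
  | 0, _, _, _ :: _ => none
  | L + 1, v, x, wd =>
    match forceNat x (fun x' => forceNat (Nat.land v 1048575) (fun r => S.step k x' r wd)) with
    | none => none
    | some (y, wd') => forceNat (Nat.shiftRight v 20) (fun v' => S.walk k L v' y wd')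

/-- Check fact `k` against its justification at the head of the stream. -/
noncomputable def Sys.checkFact (S : Sys) (k v : ℕ) : Option ℕ :=
  let R := S.rules.get (Nat.land v 1048575)
  let v1 := Nat.shiftRight v 20
  let x := Nat.land v1 1048575
  let v2 := Nat.shiftRight v1 20
  match S.walk k (Nat.land v2 1048575) (Nat.shiftRight v2 20) x R.u with
  | none => none
  | some (a, v3) =>
    match S.walk k (Nat.land v3 1048575) (Nat.shiftRight v3 20) x R.w with
    | none => none
    | some (b, v4) =>
      bif Nat.beq a (fSrc (S.fact k)) && Nat.beq b (fDst (S.fact k))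
          && Nat.beq R.l (fLet (S.fact k)) && Nat.ble R.l S.nl
          && (!R.rooted || Nat.beq x 0) then some v4 else none

/-- Check the facts `k, ..., k + c - 1`. -/
noncomputable def Sys.checkFacts (S : Sys) : ℕ → ℕ → ℕ → Bool
  | _, 0, _ => true
  | k, c + 1, v =>
    match S.checkFact k v with
    | none => false
    | some v' => forceNat v' (fun v'' => forceNat (k + 1) (fun k' => S.checkFacts k' c v''))

/-- Fact `k` defines node `k + 1`. -/
noncomputable def Sys.checkDef (S : Sys) (k : ℕ) : Bool :=
  Nat.ble (fSrc (S.fact k)) k && Nat.beq (fDst (S.fact k)) (k + 1) && Nat.blt (fLet (S.fact k)) S.nl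

/-- Check the row of main node `i`, from letter `nl - c`. -/
noncomputable def Sys.checkRow (S : Sys) (n N i : ℕ) : ℕ → ℕ → Option ℕ
  | 0, v => some v
  | c + 1, v =>
    match S.walk N (Nat.land v 1048575) (Nat.shiftRight v 20) i [S.nl - (c + 1)] with
    | none => none
    | some (j, v') => bif Nat.blt j n then S.checkRow n N i c v' else none

/-- Check the rows of the main nodes `i, ..., i + c - 1`. -/
noncomputable def Sys.checkRows (S : Sys) (n N : ℕ) : ℕ → ℕ → ℕ → Bool
  | _, 0, _ => true
  | i, c + 1, v =>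
    match S.checkRow n N i S.nl v with
    | none => false
    | some v' => forceNat v' (fun v'' => forceNat (i + 1) (fun i' => S.checkRows n N i' c v''))

/-! ### Soundness -/

theorem lt_of_blt {a b : ℕ} (h : Nat.blt a b = true) : a < b := Nat.le_of_ble_eq_true h


section

variable {X : Type*} (act : ℕ → X → X)

/-- Run a word. -/
def run : List ℕ → X → X
  | [], x => x
  | l :: ls, x => run ls (act l x)

theorem run_append : ∀ (u v : List ℕ) (x : X), run act (u ++ v) x = run act v (run act u x)
  | [], _, _ => rfl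
  | l :: u, v, x => run_append u v (act l x)

variable (S : Sys)

/-- The hypotheses on the action. -/
structure Sys.IsAction : Prop where
  ident : ∀ x, act S.nl x = x
  cancel : ∀ l ≤ S.nl, ∀ x, act (S.inv l) (act l x) = x

/-- A rule is valid for the action with base point `x₀`. -/
def Rule.Valid (R : Rule) (x₀ : X) : Prop :=
  ∀ x, (R.rooted = true → x = x₀) → act R.l (run act R.u x) = run act R.w x

/-- The fact `k` holds for the node map `f`. -/
def Sys.Holds (f : ℕ → X) (k : ℕ) : Prop :=
  fLet (S.fact k) ≤ S.nl ∧ act (fLet (S.fact k)) (f (fSrc (S.fact k))) = f (fDst (S.fact k))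

theorem stepTo_spec {E x a l b : ℕ} {wd : List ℕ} {y : ℕ} {wd' : List ℕ} (f : ℕ → X)
    (hE : ∀ q, act E q = q) (hl : act l (f a) = f b) (h : stepTo E x a l b wd = some (y, wd')) :
    run act wd (f x) = run act wd' (f y) := by
  unfold stepTo at h
  cases hax : Nat.beq a x with
  | false => simp [hax] at h
  | true =>
    simp only [hax, cond_true] at h
    have hax' : a = x := Nat.eq_of_beq_eq_true hax
    subst hax'
    cases hlE : Nat.beq l E with
    | true =>
      simp only [hlE, cond_true, Option.some.injEq, Prod.mk.injEq] at h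
      obtain ⟨rfl, rfl⟩ := h
      rw [Nat.eq_of_beq_eq_true hlE, hE] at hl
      rw [hl]
    | false =>
      simp only [hlE, cond_false] at h
      cases wd with
      | nil => simp at h
      | cons c cs =>
        simp only at h
        cases hcl : Nat.beq c l with
        | false => simp [hcl] at h
        | true =>
          simp only [hcl, cond_true, Option.some.injEq, Prod.mk.injEq] at h
          obtain ⟨rfl, rfl⟩ := h
          rw [run, Nat.eq_of_beq_eq_true hcl, hl]

variable {act S}

theorem Sys.step_spec (hA : S.IsAction act) {f : ℕ → X} {k x r : ℕ} {wd : List ℕ} {y : ℕ}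
    {wd' : List ℕ} (hk : ∀ i < k, S.Holds act f i) (h : S.step k x r wd = some (y, wd')) :
    run act wd (f x) = run act wd' (f y) := by
  unfold Sys.step at h
  cases hlt : Nat.blt (Nat.shiftRight r 1) k with
  | false => rw [hlt, cond_false] at h; exact absurd h (by simp)
  | true =>
    rw [hlt, cond_true] at h
    obtain ⟨hle, hfact⟩ := hk _ (lt_of_blt hlt)
    cases hr : Nat.beq (Nat.land r 1) 0 with
    | true =>
      rw [hr, cond_true] at h
      exact stepTo_spec act f hA.ident hfact h
    | false =>
      rw [hr, cond_false] at h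
      refine stepTo_spec act f hA.ident ?_ h
      rw [← hfact, hA.cancel _ hle]

theorem Sys.walk_spec (hA : S.IsAction act) {f : ℕ → X} {k : ℕ} (hk : ∀ i < k, S.Holds act f i) :
    ∀ {L v x : ℕ} {wd : List ℕ} {y v' : ℕ}, S.walk k L v x wd = some (y, v') →
      run act wd (f x) = f y
  | 0, v, x, [], y, v', h => by
    simp only [Sys.walk, Option.some.injEq, Prod.mk.injEq] at h
    obtain ⟨rfl, -⟩ := h
    rfl
  | 0, v, x, _ :: _, y, v', h => by simp [Sys.walk] at h
  | L + 1, v, x, wd, y, v', h => by
    rw [Sys.walk] at h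
    simp only [forceNat_eq] at h
    split at h
    · simp at h
    · rename_i z wd' hs
      rw [S.step_spec hA hk hs]
      exact Sys.walk_spec hA hk h

theorem Sys.checkFact_spec (hA : S.IsAction act) {f : ℕ → X}
    (hR : ∀ i, (S.rules.get i).Valid act (f 0))
    {k v v' : ℕ} (hk : ∀ i < k, S.Holds act f i) (h : S.checkFact k v = some v') :
    S.Holds act f k := by
  unfold Sys.checkFact at h
  simp only at h
  split at h
  · simp at h
  rename_i a v3 hu
  split at h
  · simp at h
  rename_i b v4 hw
  generalize hc : (Nat.beq a (fSrc (S.fact k)) && Nat.beq b (fDst (S.fact k))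
          && Nat.beq (S.rules.get (Nat.land v 1048575)).l (fLet (S.fact k))
          && Nat.ble (S.rules.get (Nat.land v 1048575)).l S.nl
          && (!(S.rules.get (Nat.land v 1048575)).rooted ||
              Nat.beq (Nat.land (Nat.shiftRight v 20) 1048575) 0)) = c at h
  cases c with
  | false => simp at h
  | true =>
    simp only [Bool.and_eq_true, Bool.or_eq_true, Bool.not_eq_true'] at hc
    obtain ⟨⟨⟨⟨ha, hb⟩, hl⟩, hle⟩, hroot⟩ := hc
    replace ha := Nat.eq_of_beq_eq_true ha
    replace hb := Nat.eq_of_beq_eq_true hb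
    replace hl := Nat.eq_of_beq_eq_true hl
    refine ⟨hl ▸ Nat.le_of_ble_eq_true hle, ?_⟩
    rw [← ha, ← hb, ← hl, ← S.walk_spec hA hk hu, ← S.walk_spec hA hk hw]
    refine hR _ _ fun hr => ?_
    rcases hroot with h0 | h0
    · exact absurd (hr.symm.trans h0) (by decide)
    · rw [Nat.eq_of_beq_eq_true h0]

theorem Sys.checkFacts_spec (hA : S.IsAction act) {f : ℕ → X}
    (hR : ∀ i, (S.rules.get i).Valid act (f 0)) :
    ∀ {k c v : ℕ}, S.checkFacts k c v = true → (∀ i < k, S.Holds act f i) →
      ∀ i < k + c, S.Holds act f i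
  | k, 0, v, _, hk => hk
  | k, c + 1, v, h, hk => by
    rw [Sys.checkFacts] at h
    simp only [forceNat_eq] at h
    split at h
    · simp at h
    · rename_i v' hf
      have := Sys.checkFacts_spec hA hR h (fun i hi => by
        rcases Nat.eq_or_lt_of_le (Nat.le_of_lt_succ hi) with rfl | h'
        exacts [S.checkFact_spec hA hR hk hf, hk i h'])
      intro i hi
      exact this i (by omega)

/-- The node map built from the defining facts. -/
noncomputable def Sys.build (S : Sys) (act : ℕ → X → X) (x₀ : X) : ℕ → ℕ → X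
  | 0 => fun _ => x₀
  | j + 1 => fun i =>
    if i ≤ j then S.build act x₀ j i
    else act (fLet (S.fact j)) (S.build act x₀ j (fSrc (S.fact j)))

theorem Sys.build_stable (x₀ : X) : ∀ m i, i ≤ m → S.build act x₀ m i = S.build act x₀ i i
  | 0, i, h => by obtain rfl : i = 0 := by omega
                  rfl
  | m + 1, i, h => by
    rcases Nat.eq_or_lt_of_le h with rfl | h'
    · rfl
    · rw [Sys.build]
      simp only
      rw [if_pos (by omega : i ≤ m)]
      exact Sys.build_stable x₀ m i (by omega)

theorem Sys.exists_map (S : Sys) (act : ℕ → X → X) (x₀ : X) {D : ℕ}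
    (hD : ∀ k < D, S.checkDef k = true) : ∃ f : ℕ → X, f 0 = x₀ ∧ ∀ k < D, S.Holds act f k := by
  refine ⟨fun i => S.build act x₀ i i, rfl, fun k hk => ?_⟩
  have h := hD k hk
  simp only [Sys.checkDef, Bool.and_eq_true] at h
  obtain ⟨⟨h1, h2⟩, h3⟩ := h
  refine ⟨?_, ?_⟩
  · exact (lt_of_blt h3).le
  · show act _ (S.build act x₀ _ _) = S.build act x₀ (fDst (S.fact k)) (fDst (S.fact k))
    rw [Nat.eq_of_beq_eq_true h2, Sys.build]
    simp only
    rw [if_neg (by omega : ¬ k + 1 ≤ k), Sys.build_stable x₀ k _ (Nat.le_of_ble_eq_true h1)]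

theorem Sys.checkRow_spec (hA : S.IsAction act) {f : ℕ → X} {n N i : ℕ}
    (hN : ∀ k < N, S.Holds act f k) :
    ∀ {c v v' : ℕ}, S.checkRow n N i c v = some v' →
      ∀ l, S.nl - c ≤ l → l < S.nl → ∃ j < n, act l (f i) = f j
  | 0, v, v', _, l, h1, h2 => by omega
  | c + 1, v, v', h, l, h1, h2 => by
    rw [Sys.checkRow] at h
    split at h
    · simp at h
    rename_i j v'' hw
    cases hj : Nat.blt j n with
    | false => simp [hj] at h
    | true =>
      simp only [hj, cond_true] at h
      rcases Nat.eq_or_lt_of_le h1 with rfl | h'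
      · exact ⟨j, lt_of_blt hj, S.walk_spec hA hN hw⟩
      · exact Sys.checkRow_spec hA hN h l (by omega) h2

theorem Sys.checkRows_spec (hA : S.IsAction act) {f : ℕ → X} {n N : ℕ}
    (hN : ∀ k < N, S.Holds act f k) :
    ∀ {i c v : ℕ}, S.checkRows n N i c v = true →
      ∀ i', i ≤ i' → i' < i + c → ∀ l < S.nl, ∃ j < n, act l (f i') = f j
  | i, 0, v, _, i', h1, h2 => by omega
  | i, c + 1, v, h, i', h1, h2 => by
    rw [Sys.checkRows] at h
    simp only [forceNat_eq] at h
    split at h
    · simp at h
    rename_i v' hr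
    rcases Nat.eq_or_lt_of_le h1 with rfl | h'
    · exact fun l hl => S.checkRow_spec hA hN hr l (by omega) hl
    · exact Sys.checkRows_spec hA hN h i' (by omega) (by omega)

end

/-- Checks of a list of chunks of facts starting with fact `k`. -/
noncomputable def Sys.FactsOK (S : Sys) (k : ℕ) : List (ℕ × ℕ) → Prop
  | [] => True
  | cv :: rest => S.checkFacts k cv.1 cv.2 = true ∧ S.FactsOK (k + cv.1) rest

theorem Sys.FactsOK.spec {X : Type*} {act : ℕ → X → X} {S : Sys} (hA : S.IsAction act) {f : ℕ → X}
    (hR : ∀ i, (S.rules.get i).Valid act (f 0)) :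
    ∀ {cs : List (ℕ × ℕ)} {k : ℕ}, S.FactsOK k cs → (∀ i < k, S.Holds act f i) →
      ∀ i < k + (cs.map Prod.fst).sum, S.Holds act f i
  | [], k, _, hk => by simpa using hk
  | cv :: rest, k, h, hk => by
    have := Sys.FactsOK.spec hA hR h.2 (S.checkFacts_spec hA hR h.1 hk)
    intro i hi
    apply this i
    simp only [List.map_cons, List.sum_cons] at hi
    omega

/-- A complete certificate. -/
structure Cert (S : Sys) (n D N : ℕ) : Prop where
  pos : 0 < n
  defs : ∀ k < D, S.checkDef k = true
  facts : ∀ {X : Type} {act : ℕ → X → X}, S.IsAction act → ∀ f : ℕ → X,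
    (∀ i, (S.rules.get i).Valid act (f 0)) → (∀ k < D, S.Holds act f k) →
      ∀ k < N, S.Holds act f k
  rows : ∀ {X : Type} {act : ℕ → X → X}, S.IsAction act → ∀ f : ℕ → X,
    (∀ k < N, S.Holds act f k) → ∀ i < n, ∀ l < S.nl, ∃ j < n, act l (f i) = f j

/-- Checks of a list of chunks of rows starting with row `i`. -/
noncomputable def Sys.RowsOK (S : Sys) (n N i : ℕ) : List (ℕ × ℕ) → Prop
  | [] => True
  | cv :: rest => S.checkRows n N i cv.1 cv.2 = true ∧ S.RowsOK n N (i + cv.1) rest

theorem Sys.RowsOK.spec {X : Type*} {act : ℕ → X → X} {S : Sys} (hA : S.IsAction act) {f : ℕ → X}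
    {n N : ℕ} (hN : ∀ k < N, S.Holds act f k) :
    ∀ {cs : List (ℕ × ℕ)} {i : ℕ}, S.RowsOK n N i cs →
      ∀ i', i ≤ i' → i' < i + (cs.map Prod.fst).sum → ∀ l < S.nl, ∃ j < n, act l (f i') = f j
  | [], i, _, i', h1, h2 => by
    simp only [List.map_nil, List.sum_nil] at h2
    omega
  | cv :: rest, i, h, i', h1, h2 => by
    simp only [List.map_cons, List.sum_cons] at h2
    rcases Nat.lt_or_ge i' (i + cv.1) with h' | h'
    · exact S.checkRows_spec hA hN h.1 i' h1 h'
    · exact Sys.RowsOK.spec hA hN h.2 i' h' (by omega)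

/-- Checks of defining facts, by chunks. -/
noncomputable def Sys.DefsOK (S : Sys) (k : ℕ) : List ℕ → Prop
  | [] => True
  | c :: rest => allRange S.checkDef k c = true ∧ S.DefsOK (k + c) rest

theorem Sys.DefsOK.spec {S : Sys} : ∀ {cs : List ℕ} {k : ℕ}, S.DefsOK k cs →
    ∀ k', k ≤ k' → k' < k + cs.sum → S.checkDef k' = true
  | [], k, _, k', h1, h2 => by
    simp only [List.sum_nil] at h2
    omega
  | c :: rest, k, h, k', h1, h2 => by
    simp only [List.sum_cons] at h2
    rcases Nat.lt_or_ge k' (k + c) with h' | h'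
    · exact allRange_spec h.1 k' h1 h'
    · exact Sys.DefsOK.spec h.2 k' h' (by omega)

theorem Cert.of_chunks {S : Sys} {n D N : ℕ} (dcs : List ℕ) (fcs rcs : List (ℕ × ℕ)) (hn : 0 < n)
    (hd : S.DefsOK 0 dcs) (hds : dcs.sum = D) (hf : S.FactsOK D fcs)
    (hfs : D + (fcs.map Prod.fst).sum = N) (hr : S.RowsOK n N 0 rcs)
    (hrs : (rcs.map Prod.fst).sum = n) : Cert S n D N where
  pos := hn
  defs k hk := hd.spec k (Nat.zero_le _) (by omega)
  facts hA f hR hk k hk' := hf.spec hA hR hk k (by omega)
  rows hA f hN i hi := hr.spec hA hN i (Nat.zero_le _) (by omega)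

/-- The closed set of at most `n` points given by a certificate. -/
theorem Cert.closed {S : Sys} {n D N : ℕ} (C : Cert S n D N) {X : Type} {act : ℕ → X → X}
    (hA : S.IsAction act) (x₀ : X) (hR : ∀ i, (S.rules.get i).Valid act x₀) :
    ∃ f : ℕ → X, f 0 = x₀ ∧ ∀ i < n, ∀ l < S.nl, ∃ j < n, act l (f i) = f j := by
  obtain ⟨f, h0, hdef⟩ := S.exists_map act x₀ C.defs
  have hR' : ∀ i, (S.rules.get i).Valid act (f 0) := h0 ▸ hR
  exact ⟨f, h0, C.rows hA f (C.facts hA f hR' hdef)⟩

end Cfsg.Agent.CosetEnum
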