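import Cfsg.Agent.Lib.CosetEnum.Rep

/-!
Orders from strong generators, and a simplicity criterion for groups given by a table.
-/

set_option autoImplicit false

namespace Cfsg.Agent.CosetEnum

/-- A straight line program: column `T.nl + m` of `tbl` is the product of `prog[m]`. -/
structure Slp where
  tbl : Tbl
  prog : List (List ℕ)

noncomputable def Slp.checkPoint (S : Slp) (T : Tbl) (i : ℕ) : Bool :=
  allRange (fun l => Nat.beq (S.tbl.at' i l) (T.at' i l)) 0 T.nl &&
    allRange (fun m => (S.prog.getD m []).all (fun l => Nat.blt l (T.nl + m)) &&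
      Nat.beq (S.tbl.at' i (T.nl + m)) (S.tbl.run (S.prog.getD m []) i)) 0 S.prog.length

/-- One level of a base with strong generators. -/
structure Level where
  b : ℕ
  gens : List ℕ
  rank : PTree
  size : ℕ

noncomputable def Level.getRank (L : Level) (i : ℕ) : ℕ := L.rank.get 16 i

noncomputable def Level.checkPoint (L : Level) (S : Slp) (i : ℕ) : Bool :=
  bif Nat.blt (L.getRank i) 65535 then
    Nat.beq i L.b || L.gens.any (fun j => Nat.blt (L.getRank (S.tbl.at' i j)) (L.getRank i))
  else true

noncomputable def checkLevels (S : Slp) (T : Tbl) : List ℕ → List Level → Bool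
  | _, [] => true
  | prev, L :: Ls =>
    Nat.blt L.b T.n && L.gens.all (fun j => Nat.blt j (T.nl + S.prog.length) &&
      prev.all (fun p => Nat.beq (S.tbl.at' p j) p)) &&
    allRange (L.checkPoint S) 0 T.n &&
    Nat.ble L.size (countBelow (fun i => Nat.blt (L.getRank i) 65535) T.n) &&
    checkLevels S T (L.b :: prev) Ls

/-- Every generator is reached from `known` along relators `(l l')^m` with `m` odd. -/
def checkSteps (rels : List (List ℕ)) (nl : ℕ) : List ℕ → List (ℕ × ℕ × ℕ) → Bool
  | known, [] => (List.range nl).all fun l => decide (l ∈ known)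
  | known, (l, l', m) :: rest =>
    decide (l' ∈ known) && decide (m % 2 = 1) && decide (repWord [l, l'] m ∈ rels) &&
      decide (l < nl) && checkSteps rels nl (l :: known) rest

theorem checkSteps_spec {G : Type} [Group G] {val : ℕ → G} {rels : List (List ℕ)} {nl : ℕ}
    (hrels : ∀ W ∈ rels, evalWord val W = 1) (hsq : ∀ l < nl, val l * val l = 1) {N : Subgroup G}
    (hN : N.Normal) : ∀ {known : List ℕ} {steps : List (ℕ × ℕ × ℕ)},
      checkSteps rels nl known steps = true → (∀ l ∈ known, val l ∈ N) → ∀ l < nl, val l ∈ N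
  | known, [], h, hk, l, hl => by
    simp only [checkSteps, List.all_eq_true, List.mem_range, decide_eq_true_eq] at h
    exact hk l (h l hl)
  | known, (a, b, m) :: rest, h, hk, l, hl => by
    simp only [checkSteps, Bool.and_eq_true, decide_eq_true_eq] at h
    obtain ⟨⟨⟨⟨hb, hm⟩, hrel⟩, ha⟩, hrest⟩ := h
    refine checkSteps_spec hrels hsq hN hrest (fun x hx => ?_) l hl
    rcases List.mem_cons.mp hx with rfl | hx
    · haveI := hN
      have h1 : (val x * val b) ^ m = 1 := by
        have := hrels _ hrel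
        rw [evalWord_repWord] at this
        simpa [evalWord] using this
      have h2 : (QuotientGroup.mk' N (val x)) ^ m = 1 := by
        have h3 := congrArg (QuotientGroup.mk' N) h1
        have h5 : QuotientGroup.mk' N (val b) = 1 := (QuotientGroup.eq_one_iff (val b)).mpr (hk b hb)
        rw [map_pow, map_mul, map_one, h5, mul_one] at h3
        exact h3
      obtain ⟨j, rfl⟩ : ∃ j, m = 2 * j + 1 := ⟨m / 2, by omega⟩
      have h4 : (QuotientGroup.mk' N (val x)) ^ 2 = 1 := by
        rw [pow_two, ← map_mul, hsq x ha, map_one]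
      rw [pow_add, pow_mul, h4, one_pow, one_mul, pow_one] at h2
      exact (QuotientGroup.eq_one_iff (val x)).mp h2
    · exact hk x hx

namespace InvPres.Rep

variable {α : Type} [DecidableEq α] {P : InvPres α} {T : Tbl} (R : P.Rep T) (hnd : P.gens.Nodup)

theorem slp_elements {S : Slp} (hS : ∀ i < T.n, S.checkPoint T i = true) :
    ∀ j < T.nl + S.prog.length, ∃ g : P.Gp,
      ∀ i : Fin T.n, (((R.hom hnd g)⁻¹ i : Fin T.n) : ℕ) = S.tbl.at' i j := by
  intro j
  induction j using Nat.strong_induction_on with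
  | _ j ih =>
    intro hj
    rcases Nat.lt_or_ge j T.nl with hl | hl
    · refine ⟨P.val j, fun i => ?_⟩
      have h := hS i i.2
      rw [Slp.checkPoint, Bool.and_eq_true] at h
      rw [Nat.eq_of_beq_eq_true (allRange_spec h.1 j (Nat.zero_le _) (by omega))]
      have := R.hom_inv_apply hnd (W := [j]) (by simpa using hl) i
      simpa [evalWord] using this
    · obtain ⟨m, rfl⟩ := Nat.le.dest hl
      have hm : m < S.prog.length := by omega
      have hw : ∀ W : List ℕ, (∀ l ∈ W, l < T.nl + m) →
          ∃ g : P.Gp, ∀ i : Fin T.n, (((R.hom hnd g)⁻¹ i : Fin T.n) : ℕ) = S.tbl.run W i := by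
        intro W
        induction W with
        | nil => exact fun _ => ⟨1, fun i => by simp⟩
        | cons l ls ihW =>
          intro hW
          obtain ⟨a, ha⟩ := ih l (hW l List.mem_cons_self) (by have := hW l List.mem_cons_self; omega)
          obtain ⟨b, hb⟩ := ihW (fun x hx => hW x (List.mem_cons_of_mem _ hx))
          refine ⟨a * b, fun i => ?_⟩
          rw [map_mul, mul_inv_rev, Equiv.Perm.mul_apply, hb, ha]
          rw [Tbl.run_cons]
      have h0 := hS 0 R.ok.pos
      rw [Slp.checkPoint, Bool.and_eq_true] at h0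
      have hlt := allRange_spec h0.2 m (Nat.zero_le _) (by omega)
      rw [Bool.and_eq_true, List.all_eq_true] at hlt
      obtain ⟨g, hg⟩ := hw (S.prog.getD m []) (fun l hl => Nat.le_of_ble_eq_true (hlt.1 l hl))
      refine ⟨g, fun i => ?_⟩
      have h := hS i i.2
      rw [Slp.checkPoint, Bool.and_eq_true] at h
      have := allRange_spec h.2 m (Nat.zero_le _) (by omega)
      rw [Bool.and_eq_true] at this
      rw [hg i, Nat.eq_of_beq_eq_true this.2]

theorem lower_aux {S : Slp} (hS : ∀ i < T.n, S.checkPoint T i = true) :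
    ∀ (Ls : List Level) (prev : List ℕ), checkLevels S T prev Ls = true →
      ∀ H : Subgroup (Equiv.Perm (Fin T.n)),
        (∀ g : P.Gp, (∀ p ∈ prev, ∀ i : Fin T.n, (i : ℕ) = p → (R.hom hnd g) i = i) →
          R.hom hnd g ∈ H) → (Ls.map Level.size).prod ≤ Nat.card H := by
  intro Ls
  induction Ls with
  | nil => intro _ _ H _; exact Nat.card_pos
  | cons L Ls ih =>
    intro prev h H hH
    simp only [checkLevels, Bool.and_eq_true] at h
    obtain ⟨⟨⟨⟨hb, hgens⟩, hpts⟩, hcnt⟩, hrest⟩ := h
    let b : Fin T.n := ⟨L.b, Nat.le_of_ble_eq_true hb⟩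
    have hgen : ∀ j ∈ L.gens, ∃ k ∈ H, ∀ i : Fin T.n, ((k i : Fin T.n) : ℕ) = S.tbl.at' i j := by
      intro j hj
      rw [List.all_eq_true] at hgens
      have := hgens j hj
      rw [Bool.and_eq_true, List.all_eq_true] at this
      obtain ⟨g, hg⟩ := R.slp_elements hnd hS j (Nat.le_of_ble_eq_true this.1)
      refine ⟨(R.hom hnd g)⁻¹, inv_mem (hH g fun p hp i hip => ?_), hg⟩
      have hfix : (R.hom hnd g)⁻¹ i = i := by
        apply Fin.ext
        rw [hg, hip]
        exact Nat.eq_of_beq_eq_true (this.2 p hp)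
      rw [Equiv.Perm.inv_eq_iff_eq] at hfix
      exact hfix.symm
    have hreach : ∀ m : ℕ, ∀ i : Fin T.n, L.getRank i ≤ m → L.getRank i < 65535 →
        ∃ k ∈ H, k i = b := by
      intro m
      induction m using Nat.strong_induction_on with
      | _ m ihm =>
        intro i him hi
        have hp := allRange_spec hpts i (Nat.zero_le _) (by omega)
        have hblt : Nat.blt (L.getRank i) 65535 = true := Nat.ble_eq_true_of_le hi
        rw [Level.checkPoint, hblt, cond_true, Bool.or_eq_true, List.any_eq_true] at hp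
        rcases hp with hp | ⟨j, hj, hp⟩
        · exact ⟨1, one_mem H, Fin.ext (Nat.eq_of_beq_eq_true hp)⟩
        · obtain ⟨k, hk, hkv⟩ := hgen j hj
          have hr : L.getRank (k i) < L.getRank i := by
            rw [hkv]
            exact Nat.le_of_ble_eq_true hp
          obtain ⟨k', hk', hk'v⟩ := ihm _ (lt_of_lt_of_le hr him) (k i) le_rfl (hr.trans hi)
          exact ⟨k' * k, mul_mem hk' hk, by rw [Equiv.Perm.mul_apply, hk'v]⟩
    have horb : L.size ≤ (MulAction.orbit H b).ncard := by
      refine le_trans (Nat.le_of_ble_eq_true hcnt) ?_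
      rw [← ncard_fin_filter T.n (fun i => Nat.blt (L.getRank i) 65535)]
      refine Set.ncard_le_ncard (fun i hi => ?_)
      obtain ⟨k, hk, hki⟩ := hreach _ i le_rfl (Nat.le_of_ble_eq_true hi)
      exact ⟨⟨k⁻¹, inv_mem hk⟩, by show k⁻¹ b = i; rw [Equiv.Perm.inv_eq_iff_eq, hki]⟩
    have hrest' := ih (L.b :: prev) hrest
      (H ⊓ MulAction.stabilizer (Equiv.Perm (Fin T.n)) b) (fun g hg => by
        refine ⟨hH g (fun p hp => hg p (List.mem_cons_of_mem _ hp)), ?_⟩
        exact hg L.b List.mem_cons_self b rfl)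
    have hstab : MulAction.stabilizer H b =
        (H ⊓ MulAction.stabilizer (Equiv.Perm (Fin T.n)) b).subgroupOf H := by
      ext k
      rw [Subgroup.mem_subgroupOf, Subgroup.mem_inf, MulAction.mem_stabilizer_iff,
        MulAction.mem_stabilizer_iff]
      exact ⟨fun h => ⟨k.2, h⟩, fun h => h.2⟩
    calc ((L :: Ls).map Level.size).prod = L.size * (Ls.map Level.size).prod := by simp
      _ ≤ (MulAction.orbit H b).ncard *
          Nat.card (H ⊓ MulAction.stabilizer (Equiv.Perm (Fin T.n)) b : Subgroup _) :=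
        Nat.mul_le_mul horb hrest'
      _ = Nat.card H := by
        rw [← MulAction.index_stabilizer, hstab,
          ← Nat.card_congr (Subgroup.subgroupOfEquivOfLe
            (inf_le_left : H ⊓ MulAction.stabilizer (Equiv.Perm (Fin T.n)) b ≤ H)).toEquiv,
          Subgroup.index_mul_card]

/-- The order is exact and the representation faithful. -/
theorem card_eq [Finite P.Gp] {S : Slp} (hS : ∀ i < T.n, S.checkPoint T i = true) {Ls : List Level}
    (hL : checkLevels S T [] Ls = true) {N : ℕ} (hN : (Ls.map Level.size).prod = N)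
    (hle : Nat.card P.Gp ≤ N) : Nat.card P.Gp = N ∧ Function.Injective (R.hom hnd) := by
  have h := R.lower_aux hnd hS Ls [] hL (R.hom hnd).range (fun g _ => ⟨g, rfl⟩)
  rw [hN] at h
  have h1 : Nat.card (R.hom hnd).range * Nat.card (R.hom hnd).ker = Nat.card P.Gp := by
    rw [← Subgroup.index_ker, mul_comm, Subgroup.card_mul_index]
  have h2 : 0 < Nat.card (R.hom hnd).ker := Nat.card_pos
  have h3 : N * 1 ≤ Nat.card (R.hom hnd).range * Nat.card (R.hom hnd).ker := Nat.mul_le_mul h h2
  rw [h1, mul_one] at h3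
  have heq : Nat.card P.Gp = N := le_antisymm hle h3
  refine ⟨heq, ?_⟩
  have h4 : Nat.card (R.hom hnd).ker = 1 := by
    have hN0 : 0 < N := heq ▸ Nat.card_pos
    by_contra hne
    have : N * 2 ≤ Nat.card (R.hom hnd).range * Nat.card (R.hom hnd).ker :=
      Nat.mul_le_mul h (by omega)
    omega
  exact (MonoidHom.ker_eq_bot_iff _).mp (Subgroup.card_eq_one.mp h4)

/-- No orbit union of forbidden size: the stabiliser is maximal. -/
theorem stab_maximal (hT : checkDescend T = true) {ws : List (List ℕ)}
    (hws : ws.all (fun W => W.all fun l => Nat.blt l T.nl) = true)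
    (hst : R.stab hnd = Subgroup.closure {g | ∃ W ∈ ws, evalWord P.val W = g})
    (O : OrbitData) (roots : List ℕ) (hroots : roots.head? = some 0)
    (hlab : allRange (fun i => Nat.blt (O.getLab i) roots.length) 0 T.n = true)
    (hroot : allRange (fun c => Nat.blt (roots.getD c 0) T.n &&
      Nat.beq (O.getLab (roots.getD c 0)) c) 0 roots.length = true)
    (hchk : ∀ i < T.n, allRange (fun c => O.checkPoint T ws c (roots.getD c 0) i) 0 roots.length = true)
    (hdiv : ∀ A : Finset ℕ, A ⊆ Finset.range roots.length → 0 ∈ A →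
      (∑ c ∈ A, countBelow (fun i => Nat.beq (O.getLab i) c) T.n) ∣ T.n →
      A = {0} ∨ A = Finset.range roots.length)
    (h1 : countBelow (fun i => Nat.beq (O.getLab i) 0) T.n = 1) {K : Subgroup P.Gp}
    (hK : R.stab hnd ≤ K) : K = R.stab hnd ∨ K = ⊤ := by
  let Sset : Set (Fin T.n) := {i | ∃ k ∈ K, R.hom hnd k R.base = i}
  have hmem : ∀ g, R.hom hnd g R.base ∈ Sset ↔ g ∈ K := by
    intro g
    refine ⟨?_, fun hg => ⟨g, hg, rfl⟩⟩
    rintro ⟨k, hk, hkg⟩
    have : k⁻¹ * g ∈ R.stab hnd := by
      rw [R.mem_stab, map_mul, map_inv, Equiv.Perm.mul_apply, Equiv.Perm.inv_eq_iff_eq]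
      exact hkg.symm
    simpa using mul_mem hk (hK this)
  have hconst : ∀ i j : Fin T.n, O.getLab i = O.getLab j → i ∈ Sset → j ∈ Sset := by
    intro i j hij hi
    have hc : O.getLab i < roots.length :=
      Nat.le_of_ble_eq_true (allRange_spec hlab i (Nat.zero_le _) (by omega))
    have hr := allRange_spec hroot _ (Nat.zero_le _) (by omega : O.getLab i < 0 + roots.length)
    rw [Bool.and_eq_true] at hr
    obtain ⟨q, -, himg, -⟩ := R.exists_orbit hnd hT ws hws hst O (O.getLab i)
      (roots.getD (O.getLab i) 0) (Nat.le_of_ble_eq_true hr.1) hr.2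
      (fun p hp => allRange_spec (hchk p hp) _ (Nat.zero_le _) (by omega))
    have hi' : i ∈ R.point hnd '' MulAction.orbit (R.stab hnd) q := by
      rw [himg]; exact Nat.beq_refl _
    have hj' : j ∈ R.point hnd '' MulAction.orbit (R.stab hnd) q := by
      rw [himg]
      show Nat.beq (O.getLab j) (O.getLab i) = true
      rw [hij]; exact Nat.beq_refl _
    obtain ⟨p, ⟨a, ha⟩, rfl⟩ := hi'
    obtain ⟨p', ⟨b, hb⟩, rfl⟩ := hj'
    obtain ⟨k, hk, hki⟩ := hi
    refine ⟨(b : P.Gp) * (a : P.Gp)⁻¹ * k, mul_mem (mul_mem (hK b.2) (inv_mem (hK a.2))) hk, ?_⟩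
    subst ha hb
    show _ = R.point hnd ((b : P.Gp) • q)
    have hki' : R.hom hnd k R.base = R.hom hnd (a : P.Gp) (R.point hnd q) := by
      rw [hki]; exact R.point_smul hnd _ _
    rw [R.point_smul, map_mul, map_mul, Equiv.Perm.mul_apply, Equiv.Perm.mul_apply, hki', map_inv,
      ]
    simp
  classical
  let A : Finset ℕ := (Finset.range roots.length).filter fun c => ∃ i ∈ Sset, O.getLab i = c
  have hSA : ∀ i : Fin T.n, i ∈ Sset ↔ O.getLab i ∈ A := by
    intro i
    simp only [A, Finset.mem_filter, Finset.mem_range]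
    refine ⟨fun h => ⟨Nat.le_of_ble_eq_true (allRange_spec hlab i (Nat.zero_le _) (by omega)),
      i, h, rfl⟩, ?_⟩
    rintro ⟨-, j, hj, hji⟩
    exact hconst j i hji hj
  have hroot0 : roots.getD 0 0 = 0 := by
    cases roots with
    | nil => rfl
    | cons a as => simp only [List.head?_cons, Option.some.injEq] at hroots; subst hroots; rfl
  have hlen : 0 < roots.length := by
    cases roots with
    | nil => simp at hroots
    | cons a as => simp
  have hlab0 : O.getLab (R.base : Fin T.n) = 0 := by
    have := allRange_spec hroot 0 le_rfl (by omega)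
    rw [Bool.and_eq_true, hroot0] at this
    exact Nat.eq_of_beq_eq_true this.2
  have h0A : 0 ∈ A := by
    rw [← hlab0, ← hSA]
    exact ⟨1, one_mem K, by rw [map_one]; rfl⟩
  have hcard : Sset.ncard = ∑ c ∈ A, countBelow (fun i => Nat.beq (O.getLab i) c) T.n := by
    have hS : Sset = ↑(Finset.univ.filter fun i : Fin T.n => O.getLab i ∈ A) := by
      ext i; simp [hSA]
    rw [hS, Set.ncard_coe_finset,
      Finset.card_eq_sum_card_fiberwise
        (s := Finset.univ.filter fun i : Fin T.n => O.getLab i ∈ A)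
        (f := fun i : Fin T.n => O.getLab i) (t := A)
        (fun i hi => (Finset.mem_filter.mp (Finset.mem_coe.mp hi)).2)]
    refine Finset.sum_congr rfl fun c hc => ?_
    rw [← ncard_fin_filter T.n (fun i => Nat.beq (O.getLab i) c), ← Set.ncard_coe_finset]
    congr 1
    ext i
    simp only [Finset.coe_filter, Finset.mem_filter, Finset.mem_univ, true_and]
    exact ⟨fun h => h.2 ▸ Nat.beq_refl c,
      fun h => ⟨(Nat.eq_of_beq_eq_true h).symm ▸ hc, Nat.eq_of_beq_eq_true h⟩⟩
  have hdvd : Sset.ncard ∣ T.n := by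
    letI : MulAction P.Gp (Fin T.n) := MulAction.compHom _ (R.hom hnd)
    have horb : Sset = MulAction.orbit K R.base := by
      ext i
      exact ⟨fun ⟨k, hk, h⟩ => ⟨⟨k, hk⟩, h⟩, fun ⟨k, h⟩ => ⟨k, k.2, h⟩⟩
    have hst' : MulAction.stabilizer K R.base = (R.stab hnd).subgroupOf K := rfl
    rw [horb, ← MulAction.index_stabilizer, hst', ← R.index_stab hnd hT,
      ← Subgroup.relIndex_mul_index hK]
    exact dvd_mul_right _ _
  rw [hcard] at hdvd
  rcases hdiv A (Finset.filter_subset _ _) h0A hdvd with hA | hA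
  · left
    refine le_antisymm (fun g hg => ?_) hK
    have hg' : R.hom hnd g R.base ∈ Sset := (hmem g).mpr hg
    rw [hSA, hA, Finset.mem_singleton] at hg'
    rw [R.mem_stab]
    have hone : {i : Fin T.n | Nat.beq (O.getLab i) 0 = true}.ncard ≤ 1 := by
      rw [ncard_fin_filter T.n (fun i => Nat.beq (O.getLab i) 0), h1]
    refine (Set.ncard_le_one (Set.toFinite _)).mp hone _ ?_ _ ?_
    · show Nat.beq _ 0 = true; rw [hg']; rfl
    · show Nat.beq _ 0 = true; rw [hlab0]; rfl
  · right
    rw [eq_top_iff]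
    intro g _
    rw [← hmem, hSA, hA, Finset.mem_range]
    exact Nat.le_of_ble_eq_true (allRange_spec hlab _ (Nat.zero_le _) (by omega))

/-- Simplicity: every generator is a product of two elements of order prime to the stabiliser. -/
theorem isSimple [Finite P.Gp] (hT : checkDescend T = true) (hn : 1 < T.n)
    (hinj : Function.Injective (R.hom hnd))
    (hmax : ∀ K : Subgroup P.Gp, R.stab hnd ≤ K → K = R.stab hnd ∨ K = ⊤)
    {S : Slp} (hS : ∀ i < T.n, S.checkPoint T i = true) (p h : ℕ)
    (hh : Nat.card (R.stab hnd) = h) (hp : Nat.Coprime p h)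
    (ys : List (ℕ × ℕ × ℕ)) (steps : List (ℕ × ℕ × ℕ))
    (hys : ys.all (fun y => decide (y.1 < T.nl ∧ y.2.1 < T.nl + S.prog.length ∧
      y.2.2 < T.nl + S.prog.length)) = true)
    (hsteps : checkSteps P.relWords T.nl (ys.map Prod.fst) steps = true)
    (hchk : allRange (fun i => ys.all fun y =>
      Nat.beq (S.tbl.run (List.replicate p y.2.1) i) i &&
      Nat.beq (S.tbl.run (List.replicate p y.2.2) i) i &&
      Nat.beq (S.tbl.run [y.2.1, y.2.2] i) (T.at' i y.1)) 0 T.n = true) :
    IsSimpleGroup P.Gp := by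
  haveI : Nontrivial P.Gp := by
    obtain ⟨g, hg⟩ := R.transitive hnd hT ⟨1, hn⟩
    refine ⟨g, 1, fun h => ?_⟩
    rw [h, map_one] at hg
    exact absurd (congrArg Fin.val hg) (by show (0 : ℕ) ≠ 1; omega)
  refine ⟨fun N hN => ?_⟩
  rcases hmax (N ⊔ R.stab hnd) le_sup_right with h0 | h0
  · left
    have hle : N ≤ R.stab hnd := h0 ▸ le_sup_left
    rw [eq_bot_iff]
    intro g hg
    rw [Subgroup.mem_bot]
    apply hinj
    rw [map_one]
    ext i
    obtain ⟨k, rfl⟩ := R.transitive hnd hT i
    have := hle (hN.conj_mem g hg k⁻¹)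
    rw [R.mem_stab, inv_inv, map_mul, map_mul, map_inv, Equiv.Perm.mul_apply, Equiv.Perm.mul_apply,
      Equiv.Perm.inv_eq_iff_eq] at this
    rw [this, Equiv.Perm.one_apply]
  · right
    have hdvd : N.index ∣ h := by
      have h1 : N.relIndex (R.stab hnd) = N.relIndex (R.stab hnd ⊔ N) :=
        (Subgroup.relIndex_sup_right _ _).symm
      rw [sup_comm, h0, Subgroup.relIndex_top_right] at h1
      rw [← h1, ← hh]
      exact Subgroup.relIndex_dvd_card _ _
    have hmem : ∀ g : P.Gp, g ^ p = 1 → g ∈ N := by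
      intro g hg
      have h1 : orderOf (QuotientGroup.mk' N g) ∣ p :=
        orderOf_dvd_of_pow_eq_one (by rw [← map_pow, hg, map_one])
      have h2 : orderOf (QuotientGroup.mk' N g) ∣ h :=
        dvd_trans (Subgroup.index_eq_card N ▸ orderOf_dvd_natCard _) hdvd
      have h3 := Nat.eq_one_of_dvd_coprimes hp h1 h2
      rw [orderOf_eq_one_iff] at h3
      exact (QuotientGroup.eq_one_iff g).mp h3
    rw [eq_top_iff, ← P.closure_val, Subgroup.closure_le]
    rintro _ ⟨l₀, hl₀, rfl⟩
    refine checkSteps_spec (val := P.val) P.rel_val (fun l hl => ?_) hN hsteps (fun l hl => ?_) l₀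
      (R.nl ▸ hl₀)
    · have hl' : l < P.gens.length := R.nl ▸ hl
      rw [InvPres.val, letterVal_of_lt _ _ hl']
      exact P.sq_val _
    obtain ⟨⟨l', ya, za⟩, hy0, rfl⟩ := List.mem_map.mp hl
    rw [List.all_eq_true] at hys
    have hyz := hys _ hy0
    rw [decide_eq_true_eq] at hyz
    obtain ⟨hl', hya, hza⟩ := hyz
    obtain ⟨y, hy⟩ := R.slp_elements hnd hS _ hya
    obtain ⟨z, hz⟩ := R.slp_elements hnd hS _ hza
    have hpt : ∀ i < T.n, (S.tbl.run (List.replicate p ya) i = i) ∧
        (S.tbl.run (List.replicate p za) i = i) ∧ (S.tbl.run [ya, za] i = T.at' i l') := by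
      intro i hi
      have := allRange_spec hchk i (Nat.zero_le _) (by omega)
      rw [List.all_eq_true] at this
      have := this _ hy0
      simp only [Bool.and_eq_true] at this
      exact ⟨Nat.eq_of_beq_eq_true this.1.1, Nat.eq_of_beq_eq_true this.1.2,
        Nat.eq_of_beq_eq_true this.2⟩
    have hord : ∀ (g : P.Gp) (j : ℕ),
        (∀ i : Fin T.n, (((R.hom hnd g)⁻¹ i : Fin T.n) : ℕ) = S.tbl.at' i j) →
        (∀ i < T.n, S.tbl.run (List.replicate p j) i = i) → g ^ p = 1 := by
      intro g j hg hj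
      apply hinj
      rw [map_one, map_pow, ← inv_eq_one, ← inv_pow]
      have hrun : ∀ (m : ℕ) (i : Fin T.n),
          ((((R.hom hnd g)⁻¹ ^ m) i : Fin T.n) : ℕ) = S.tbl.run (List.replicate m j) i := by
        intro m
        induction m with
        | zero => intro i; rfl
        | succ m ihm =>
          intro i
          rw [pow_succ, Equiv.Perm.mul_apply, ihm, List.replicate_succ, Tbl.run_cons, hg]
      ext i
      rw [hrun, hj i i.2]
      rfl
    have h1 := hord y _ hy (fun i hi => (hpt i hi).1)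
    have h2 := hord z _ hz (fun i hi => (hpt i hi).2.1)
    have heq : P.val l' = y * z := by
      apply hinj
      apply inv_injective
      ext i
      have h3 := (hpt i i.2).2.2
      have hT' := R.hom_inv_apply hnd (W := [l']) (by simpa using hl') i
      have e1 : evalWord P.val [l'] = P.val l' := mul_one _
      rw [e1] at hT'
      rw [hT', map_mul, mul_inv_rev, Equiv.Perm.mul_apply, hz, hy]
      simp only [Tbl.run_cons, Tbl.run_nil] at h3 ⊢
      exact h3.symm
    show P.val l' ∈ N
    rw [heq]
    exact mul_mem (hmem y h1) (hmem z h2)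

end InvPres.Rep

end Cfsg.Agent.CosetEnum
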