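import Cfsg.Agent.Lib.CosetEnum.Bound

/-!
Permutation representations given by packed tables.
-/

set_option autoImplicit false

namespace Cfsg.Agent.CosetEnum

/-- A packed table on `n` points with `nl` letters. -/
structure Tbl where
  nl : ℕ
  n : ℕ
  invs : ℕ
  data : PTree

def Tbl.inv (T : Tbl) (l : ℕ) : ℕ := Nat.land (Nat.shiftRight T.invs (5 * l)) 31

noncomputable def Tbl.at' (T : Tbl) (i l : ℕ) : ℕ :=
  T.data.get (nat_lit 16) (Nat.add (Nat.mul i T.nl) l)

/-- Run a word through the table. -/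
noncomputable def Tbl.run (T : Tbl) (W : List ℕ) : ℕ → ℕ :=
  List.rec (motive := fun _ => ℕ → ℕ) (fun i => i) (fun l _ ih i => forceNat (T.at' i l) ih) W

@[simp] theorem Tbl.run_nil (T : Tbl) (i : ℕ) : T.run [] i = i := rfl

@[simp] theorem Tbl.run_cons (T : Tbl) (l : ℕ) (ls : List ℕ) (i : ℕ) :
    T.run (l :: ls) i = T.run ls (T.at' i l) :=
  forceNat_eq _ _

/-- Check one point against the inverse letters and the relators. -/
noncomputable def Tbl.checkPoint (T : Tbl) (rels : List (List ℕ)) (i : ℕ) : Bool :=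
  allRange (fun l => Nat.blt (T.at' i l) T.n && Nat.blt (T.inv l) T.nl
      && Nat.beq (T.at' (T.at' i l) (T.inv l)) i && Nat.beq (T.inv (T.inv l)) l) 0 T.nl
    && rels.all (fun W => W.all (fun l => Nat.blt l T.nl) && Nat.beq (T.run W i) i)

/-- The table is a permutation representation satisfying the relators. -/
structure Tbl.OK (T : Tbl) (rels : List (List ℕ)) : Prop where
  pos : 0 < T.n
  points : ∀ i < T.n, T.checkPoint rels i = true

namespace Tbl.OK

variable {T : Tbl} {rels : List (List ℕ)}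

theorem letter (h : T.OK rels) {i l : ℕ} (hi : i < T.n) (hl : l < T.nl) :
    T.at' i l < T.n ∧ T.inv l < T.nl ∧ T.at' (T.at' i l) (T.inv l) = i ∧ T.inv (T.inv l) = l := by
  have := h.points i hi
  rw [Tbl.checkPoint, Bool.and_eq_true] at this
  have := allRange_spec this.1 l (Nat.zero_le _) (by omega)
  simp only [Bool.and_eq_true] at this
  exact ⟨Nat.le_of_ble_eq_true this.1.1.1, Nat.le_of_ble_eq_true this.1.1.2,
    Nat.eq_of_beq_eq_true this.1.2, Nat.eq_of_beq_eq_true this.2⟩

/-- The permutation of a letter. -/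
noncomputable def letterPerm (h : T.OK rels) (l : ℕ) : Equiv.Perm (Fin T.n) :=
  if hl : l < T.nl then
    { toFun := fun i => ⟨T.at' i l, (h.letter i.2 hl).1⟩
      invFun := fun i => ⟨T.at' i (T.inv l), (h.letter i.2 ((h.letter i.2 hl).2.1)).1⟩
      left_inv := fun i => Fin.ext (h.letter i.2 hl).2.2.1
      right_inv := fun i => Fin.ext (by
        have h1 := h.letter i.2 hl
        have h2 := (h.letter i.2 h1.2.1).2.2.1
        rwa [h1.2.2.2] at h2) }
  else 1

theorem letterPerm_apply (h : T.OK rels) {l : ℕ} (hl : l < T.nl) (i : Fin T.n) :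
    ((h.letterPerm l i : Fin T.n) : ℕ) = T.at' i l := by
  rw [letterPerm, dif_pos hl]
  rfl

/-- Words act on the right: `evalWord` of the inverse permutations undoes a run. -/
theorem evalWord_run (h : T.OK rels) : ∀ (W : List ℕ), (∀ l ∈ W, l < T.nl) → ∀ i : Fin T.n,
    (((evalWord (fun l => (h.letterPerm l)⁻¹) W)⁻¹ i : Fin T.n) : ℕ) = T.run W i
  | [], _, i => by simp [evalWord]
  | l :: ls, hW, i => by
    rw [Tbl.run_cons]
    show (((((h.letterPerm l)⁻¹ * evalWord _ ls))⁻¹ i : Fin T.n) : ℕ) = T.run ls (T.at' i l)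
    rw [mul_inv_rev, inv_inv, Equiv.Perm.mul_apply,
      h.evalWord_run ls (fun x hx => hW x (List.mem_cons_of_mem _ hx)),
      h.letterPerm_apply (hW l List.mem_cons_self)]

theorem evalWord_rel (h : T.OK rels) {W : List ℕ} (hW : W ∈ rels) :
    evalWord (fun l => (h.letterPerm l)⁻¹) W = 1 := by
  rw [← inv_eq_one]
  ext i
  have hp := h.points i i.2
  rw [Tbl.checkPoint, Bool.and_eq_true, List.all_eq_true] at hp
  have hWp := hp.2 W hW
  rw [Bool.and_eq_true, List.all_eq_true] at hWp
  rw [h.evalWord_run W (fun l hl => Nat.le_of_ble_eq_true (hWp.1 l hl)) i]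
  exact Nat.eq_of_beq_eq_true hWp.2

end Tbl.OK

end Cfsg.Agent.CosetEnum
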