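import Cfsg.Agent.Lib.CosetEnum.Cox

/-!
The permutation representation of a presented group attached to a table.
-/

set_option autoImplicit false

namespace Cfsg.Agent.CosetEnum

/-- Labels and ranks of an orbit decomposition under some words. -/
structure OrbitData where
  lab : PTree
  rank : PTree

noncomputable def OrbitData.getLab (O : OrbitData) (i : ℕ) : ℕ := O.lab.get 16 i
noncomputable def OrbitData.getRank (O : OrbitData) (i : ℕ) : ℕ := O.rank.get 16 i

/-- The number of `i < n` with `p i`. -/
def countBelow (p : ℕ → Bool) : ℕ → ℕ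
  | 0 => 0
  | n + 1 => bif p n then countBelow p n + 1 else countBelow p n

theorem countBelow_eq (p : ℕ → Bool) :
    ∀ n, countBelow p n = ((Finset.range n).filter fun i => p i = true).card
  | 0 => rfl
  | n + 1 => by
    rw [countBelow, Finset.range_add_one, Finset.filter_insert, countBelow_eq p n]
    cases h : p n <;> simp

theorem ncard_fin_filter (n : ℕ) (p : ℕ → Bool) :
    {i : Fin n | p i = true}.ncard = countBelow p n := by
  rw [countBelow_eq, ← Set.ncard_coe_finset]
  refine Set.ncard_congr (fun i _ => (i : ℕ)) (fun i hi => ?_) (fun a b _ _ h => Fin.ext h)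
    (fun b hb => ?_)
  · simp only [Finset.coe_filter, Finset.mem_range]
    exact ⟨i.2, hi⟩
  · simp only [Finset.coe_filter, Finset.mem_range] at hb
    exact ⟨⟨b, hb.1⟩, hb.2, rfl⟩

/-- Check point `i` of the orbit with label `c` and root `r`. -/
noncomputable def OrbitData.checkPoint (O : OrbitData) (T : Tbl) (ws : List (List ℕ)) (c r i : ℕ) : Bool :=
  bif Nat.beq (O.getLab i) c then
    ws.all (fun W => Nat.beq (O.getLab (T.run W i)) c) &&
      (Nat.beq i r || ws.any (fun W => Nat.beq (O.getLab (T.run W i)) c &&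
        Nat.blt (O.getRank (T.run W i)) (O.getRank i)))
  else true

namespace InvPres

variable {α : Type} [DecidableEq α] (P : InvPres α) {T : Tbl}

/-- A table for the whole presentation. -/
structure Rep (T : Tbl) : Prop where
  ok : T.OK P.relWords
  nl : T.nl = P.gens.length
  invs : allRange (fun l => Nat.beq (T.inv l) l) 0 T.nl = true

namespace Rep

variable {P} (R : P.Rep T)

/-- The permutation of a generator. -/
noncomputable def genPerm (x : α) : Equiv.Perm (Fin T.n) := (R.ok.letterPerm (P.gens.idxOf x))⁻¹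

theorem letterVal_genPerm {W : List ℕ} (hW : ∀ l ∈ W, l < T.nl) (hnd : P.gens.Nodup) :
    evalWord (letterVal P.gens R.genPerm) W = evalWord (fun l => (R.ok.letterPerm l)⁻¹) W := by
  induction W with
  | nil => rfl
  | cons l ls ih =>
    show letterVal P.gens R.genPerm l * _ = (R.ok.letterPerm l)⁻¹ * _
    rw [ih (fun x hx => hW x (List.mem_cons_of_mem _ hx))]
    congr 1
    have hl : l < P.gens.length := R.nl ▸ hW l List.mem_cons_self
    rw [letterVal_of_lt _ _ hl, genPerm, hnd.idxOf_getElem l hl]

include R in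
theorem word_letters {W : List ℕ} (hW : W ∈ P.relWords) : ∀ l ∈ W, l < T.nl := by
  have h := R.ok.points 0 R.ok.pos
  rw [Tbl.checkPoint, Bool.and_eq_true, List.all_eq_true] at h
  have := h.2 W hW
  rw [Bool.and_eq_true, List.all_eq_true] at this
  exact fun l hl => Nat.le_of_ble_eq_true (this.1 l hl)

variable (hnd : P.gens.Nodup)

/-- The representation. -/
noncomputable def hom (hnd : P.gens.Nodup) : P.Gp →* Equiv.Perm (Fin T.n) :=
  PresentedGroup.toGroup (P.kills R.genPerm fun W hW => by
    rw [R.letterVal_genPerm (R.word_letters hW) hnd]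
    exact R.ok.evalWord_rel hW)

theorem hom_of (x : α) : R.hom hnd (PresentedGroup.of x) = R.genPerm x :=
  PresentedGroup.toGroup.of _

theorem hom_evalWord : ∀ W : List ℕ, R.hom hnd (evalWord P.val W) =
    evalWord (letterVal P.gens R.genPerm) W
  | [] => map_one _
  | l :: ls => by
    show R.hom hnd (P.val l * evalWord P.val ls) = _ * _
    rw [map_mul, hom_evalWord ls]
    congr 1
    unfold InvPres.val letterVal
    cases P.gens[l]? with
    | none => exact map_one _
    | some x => exact R.hom_of hnd x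

/-- A word acts by running it backwards. -/
theorem hom_inv_apply {W : List ℕ} (hW : ∀ l ∈ W, l < T.nl) (i : Fin T.n) :
    (((R.hom hnd (evalWord P.val W))⁻¹ i : Fin T.n) : ℕ) = T.run W i := by
  rw [R.hom_evalWord, R.letterVal_genPerm hW hnd, R.ok.evalWord_run W hW]

theorem gen_apply {l : ℕ} (hl : l < T.nl) (i : Fin T.n) :
    ((R.hom hnd (P.val l) i : Fin T.n) : ℕ) = T.at' i l := by
  have hl' : l < P.gens.length := R.nl ▸ hl
  have hself : (R.hom hnd (P.val l))⁻¹ = R.hom hnd (P.val l) := by
    rw [InvPres.val, letterVal_of_lt _ _ hl', ← map_inv,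
      inv_eq_of_mul_eq_one_right (P.sq_val _)]
  rw [← hself]
  have := R.hom_inv_apply hnd (W := [l]) (by simpa using hl) i
  simpa [evalWord] using this

/-- The base point. -/
def base : Fin T.n := ⟨0, R.ok.pos⟩

/-- The point stabiliser. -/
noncomputable def stab : Subgroup P.Gp := (MulAction.stabilizer (Equiv.Perm (Fin T.n)) R.base).comap (R.hom hnd)

theorem mem_stab {g : P.Gp} : g ∈ R.stab hnd ↔ R.hom hnd g R.base = R.base := Iff.rfl

/-- Every point has a smaller neighbour. -/
noncomputable def checkDescend (T : Tbl) : Bool :=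
  allRange (fun i => (List.range T.nl).any fun l => Nat.blt (T.at' i l) i) 1 (T.n - 1)

theorem transitive (hT : checkDescend T = true) :
    ∀ i : Fin T.n, ∃ g : P.Gp, R.hom hnd g R.base = i := by
  intro i
  obtain ⟨i, hi⟩ := i
  induction i using Nat.strong_induction_on with
  | _ i ih =>
    rcases Nat.eq_zero_or_pos i with rfl | hpos
    · exact ⟨1, by rw [map_one]; rfl⟩
    · have := allRange_spec hT i hpos (by omega)
      simp only [List.any_eq_true, List.mem_range] at this
      obtain ⟨l, hl, hlt⟩ := this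
      have hlt' : T.at' i l < i := Nat.le_of_ble_eq_true hlt
      obtain ⟨g, hg⟩ := ih _ hlt' (by omega)
      refine ⟨P.val l * g, ?_⟩
      rw [map_mul, Equiv.Perm.mul_apply, hg]
      apply Fin.ext
      rw [R.gen_apply hnd hl]
      obtain ⟨-, -, h3, -⟩ := R.ok.letter hi hl
      have h4 := allRange_spec R.invs l (Nat.zero_le _) (by omega)
      rw [Nat.eq_of_beq_eq_true h4] at h3
      exact h3

theorem index_stab (hT : checkDescend T = true) : (R.stab hnd).index = T.n := by
  letI : MulAction P.Gp (Fin T.n) := MulAction.compHom _ (R.hom hnd)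
  have hst : R.stab hnd = MulAction.stabilizer P.Gp R.base := rfl
  rw [hst, MulAction.index_stabilizer]
  have : MulAction.orbit P.Gp R.base = Set.univ :=
    Set.eq_univ_of_forall fun i => R.transitive hnd hT i
  rw [this, Set.ncard_univ, Nat.card_fin]

/-- A subgroup of index at most `n` whose generators fix the base point is the stabiliser. -/
theorem eq_stab (hT : checkDescend T = true) {K : Subgroup P.Gp} (hle : K ≤ R.stab hnd)
    (h0 : K.index ≠ 0) (hn : K.index ≤ T.n) : K = R.stab hnd ∧ K.index = T.n := by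
  have hdvd := Subgroup.index_dvd_of_le hle
  rw [R.index_stab hnd hT] at hdvd
  have heq : K.index = T.n := le_antisymm hn (Nat.le_of_dvd (Nat.pos_of_ne_zero h0) hdvd)
  refine ⟨le_antisymm hle ?_, heq⟩
  have hri := Subgroup.relIndex_mul_index hle
  rw [R.index_stab hnd hT, heq] at hri
  have : K.relIndex (R.stab hnd) = 1 :=
    Nat.eq_of_mul_eq_mul_right R.ok.pos (by rw [hri, one_mul])
  exact Subgroup.relIndex_eq_one.mp this

/-- The point of a coset of the stabiliser. -/
noncomputable def point : P.Gp ⧸ R.stab hnd → Fin T.n :=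
  Quotient.lift (fun g => R.hom hnd g R.base) fun a b hab => by
    have h : a⁻¹ * b ∈ R.stab hnd := QuotientGroup.leftRel_apply.mp hab
    rw [R.mem_stab, map_mul, map_inv, Equiv.Perm.mul_apply, Equiv.Perm.inv_eq_iff_eq] at h
    exact h.symm

theorem point_injective : Function.Injective (R.point hnd) := by
  intro p q
  induction p using Quotient.inductionOn' with | h a =>
  induction q using Quotient.inductionOn' with | h b =>
  intro h
  apply QuotientGroup.eq.mpr
  rw [R.mem_stab, map_mul, map_inv, Equiv.Perm.mul_apply, Equiv.Perm.inv_eq_iff_eq]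
  exact h.symm

theorem point_smul (g : P.Gp) (q : P.Gp ⧸ R.stab hnd) :
    R.point hnd (g • q) = R.hom hnd g (R.point hnd q) := by
  induction q using Quotient.inductionOn' with | h a =>
  show R.hom hnd (g * a) R.base = _
  rw [map_mul, Equiv.Perm.mul_apply]
  rfl

/-- An orbit in the coset space, of the subgroup generated by some words. -/
theorem exists_orbit (hT : checkDescend T = true) {K : Subgroup P.Gp}
    (ws : List (List ℕ)) (hws : ws.all (fun W => W.all fun l => Nat.blt l T.nl) = true)
    (hK : K = Subgroup.closure {g | ∃ W ∈ ws, evalWord P.val W = g})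
    (O : OrbitData) (c r : ℕ) (hr : r < T.n) (hlab : Nat.beq (O.getLab r) c = true)
    (hchk : ∀ i < T.n, O.checkPoint T ws c r i = true) :
    ∃ q : P.Gp ⧸ R.stab hnd, (R.point hnd q : ℕ) = r ∧
      R.point hnd '' MulAction.orbit K q = {i : Fin T.n | Nat.beq (O.getLab i) c = true} ∧
      (MulAction.orbit K q).ncard = countBelow (fun i => Nat.beq (O.getLab i) c) T.n := by
  obtain ⟨g₀, hg₀⟩ := R.transitive hnd hT ⟨r, hr⟩
  suffices himage : R.point hnd '' MulAction.orbit K (g₀ : P.Gp ⧸ R.stab hnd) =
      {i : Fin T.n | Nat.beq (O.getLab i) c = true} by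
    refine ⟨(g₀ : P.Gp ⧸ R.stab hnd), congrArg Fin.val hg₀, himage, ?_⟩
    rw [← Set.ncard_image_of_injective _ (R.point_injective hnd), himage]
    exact ncard_fin_filter T.n (fun i => Nat.beq (O.getLab i) c)
  let C : Set (Fin T.n) := {i | Nat.beq (O.getLab i) c = true}
  have hlt : ∀ W ∈ ws, ∀ l ∈ W, l < T.nl := by
    intro W hW l hl
    rw [List.all_eq_true] at hws
    have := hws W hW
    rw [List.all_eq_true] at this
    exact Nat.le_of_ble_eq_true (this l hl)
  have hstep : ∀ i ∈ C, ∀ W ∈ ws, (R.hom hnd (evalWord P.val W))⁻¹ i ∈ C := by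
    intro i hi W hW
    have h := hchk i i.2
    rw [OrbitData.checkPoint, (show Nat.beq (O.getLab i) c = true from hi), cond_true,
      Bool.and_eq_true, List.all_eq_true] at h
    show Nat.beq (O.getLab _) c = true
    rw [R.hom_inv_apply hnd (hlt W hW)]
    exact h.1 W hW
  have hC : ∀ k ∈ K, ∀ i ∈ C, R.hom hnd k i ∈ C ∧ (R.hom hnd k)⁻¹ i ∈ C := by
    intro k hk
    rw [hK] at hk
    induction hk using Subgroup.closure_induction with
    | mem x hx =>
      obtain ⟨W, hW, rfl⟩ := hx
      intro i hi
      refine ⟨?_, hstep i hi W hW⟩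
      obtain ⟨j, hj, hji⟩ := ((C.toFinite.injOn_iff_bijOn_of_mapsTo
        (fun a ha => hstep a ha W hW)).mp (Equiv.injective _).injOn).surjOn hi
      rw [← hji]
      simpa using hj
    | one => intro i hi; simpa using hi
    | mul a b _ _ ha hb =>
      intro i hi
      rw [map_mul, mul_inv_rev, Equiv.Perm.mul_apply, Equiv.Perm.mul_apply]
      exact ⟨(ha _ (hb i hi).1).1, (hb _ (ha i hi).2).2⟩
    | inv a _ ha =>
      intro i hi
      rw [map_inv, inv_inv]
      exact ⟨(ha i hi).2, (ha i hi).1⟩
  have hreach : ∀ m : ℕ, ∀ i : Fin T.n, O.getRank i ≤ m → i ∈ C →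
      ∃ k ∈ K, R.hom hnd k i = ⟨r, hr⟩ := by
    intro m
    induction m using Nat.strong_induction_on with
    | _ m ih =>
      intro i hm hi
      have h := hchk i i.2
      rw [OrbitData.checkPoint, (show Nat.beq (O.getLab i) c = true from hi), cond_true,
        Bool.and_eq_true, Bool.or_eq_true, List.any_eq_true] at h
      rcases h.2 with h2 | ⟨W, hW, h2⟩
      · exact ⟨1, one_mem K, by rw [map_one]; exact Fin.ext (Nat.eq_of_beq_eq_true h2)⟩
      · rw [Bool.and_eq_true] at h2
        have hk : (evalWord P.val W)⁻¹ ∈ K := by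
          rw [hK]
          exact inv_mem (Subgroup.subset_closure ⟨W, hW, rfl⟩)
        have hr1 : O.getRank (T.run W i) < O.getRank i := Nat.le_of_ble_eq_true h2.2
        rw [← R.hom_inv_apply hnd (hlt W hW)] at hr1
        obtain ⟨k, hkK, hki⟩ := ih _ (lt_of_lt_of_le hr1 hm) _ le_rfl (hstep i hi W hW)
        refine ⟨k * (evalWord P.val W)⁻¹, mul_mem hkK hk, ?_⟩
        rw [map_mul, map_inv, Equiv.Perm.mul_apply, hki]
  ext i
  constructor
  · rintro ⟨_, ⟨k, rfl⟩, rfl⟩
    show R.point hnd ((k : P.Gp) • (QuotientGroup.mk g₀ : P.Gp ⧸ R.stab hnd)) ∈ C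
    rw [R.point_smul]
    refine (hC k k.2 _ ?_).1
    show R.hom hnd g₀ R.base ∈ C
    rw [hg₀]
    exact hlab
  · intro hi
    obtain ⟨k, hk, hki⟩ := hreach _ i le_rfl hi
    refine ⟨_, ⟨⟨k⁻¹, inv_mem hk⟩, rfl⟩, ?_⟩
    show R.point hnd (k⁻¹ • (QuotientGroup.mk g₀ : P.Gp ⧸ R.stab hnd)) = i
    rw [R.point_smul, map_inv, Equiv.Perm.inv_eq_iff_eq, hki]
    exact hg₀

end Rep

end InvPres

end Cfsg.Agent.CosetEnum
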