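import Cfsg.Agent.Lib.CosetEnum.Order

/-!
Lower bounds on the orders of subgroups generated by some of the letters.
-/

set_option autoImplicit false

namespace Cfsg.Agent.CosetEnum.InvPres.Rep

variable {α : Type} [DecidableEq α] {P : InvPres α} {T : Tbl} (R : P.Rep T) (hnd : P.gens.Nodup)

theorem slp_elements_mem {S : Slp} (hS : ∀ i < T.n, S.checkPoint T i = true) {sel : List ℕ}
    (hprog : S.prog.all (fun W => W.all fun l => decide (l ∈ sel) || Nat.ble T.nl l) = true)
    {K : Subgroup P.Gp} (hK : ∀ l ∈ sel, P.val l ∈ K) :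
    ∀ j < T.nl + S.prog.length, (j ∈ sel ∨ T.nl ≤ j) → ∃ g ∈ K,
      ∀ i : Fin T.n, (((R.hom hnd g)⁻¹ i : Fin T.n) : ℕ) = S.tbl.at' i j := by
  intro j
  induction j using Nat.strong_induction_on with
  | _ j ih =>
    intro hj hsel
    rcases Nat.lt_or_ge j T.nl with hl | hl
    · refine ⟨P.val j, hK j (hsel.resolve_right (by omega)), fun i => ?_⟩
      have h := hS i i.2
      rw [Slp.checkPoint, Bool.and_eq_true] at h
      rw [Nat.eq_of_beq_eq_true (allRange_spec h.1 j (Nat.zero_le _) (by omega))]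
      have := R.hom_inv_apply hnd (W := [j]) (by simpa using hl) i
      simpa [evalWord] using this
    · obtain ⟨m, rfl⟩ := Nat.le.dest hl
      have hm : m < S.prog.length := by omega
      have hw : ∀ W : List ℕ, (∀ l ∈ W, l < T.nl + m ∧ (l ∈ sel ∨ T.nl ≤ l)) →
          ∃ g ∈ K, ∀ i : Fin T.n, (((R.hom hnd g)⁻¹ i : Fin T.n) : ℕ) = S.tbl.run W i := by
        intro W
        induction W with
        | nil => exact fun _ => ⟨1, one_mem K, fun i => by simp⟩
        | cons l ls ihW =>
          intro hW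
          obtain ⟨a, haK, ha⟩ := ih l (hW l List.mem_cons_self).1
            (by have := (hW l List.mem_cons_self).1; omega) (hW l List.mem_cons_self).2
          obtain ⟨b, hbK, hb⟩ := ihW (fun x hx => hW x (List.mem_cons_of_mem _ hx))
          refine ⟨a * b, mul_mem haK hbK, fun i => ?_⟩
          rw [map_mul, mul_inv_rev, Equiv.Perm.mul_apply, hb, ha]
          rw [Tbl.run_cons]
      have h0 := hS 0 R.ok.pos
      rw [Slp.checkPoint, Bool.and_eq_true] at h0
      have hlt := allRange_spec h0.2 m (Nat.zero_le _) (by omega)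
      rw [Bool.and_eq_true, List.all_eq_true] at hlt
      have hmem : S.prog.getD m [] ∈ S.prog := by
        rw [List.getD_eq_getElem _ _ hm]; exact List.getElem_mem hm
      simp only [List.all_eq_true, Bool.or_eq_true, decide_eq_true_eq] at hprog
      obtain ⟨g, hgK, hg⟩ := hw (S.prog.getD m []) (fun l hl => ⟨Nat.le_of_ble_eq_true (hlt.1 l hl),
        (hprog _ hmem l hl).imp id Nat.le_of_ble_eq_true⟩)
      refine ⟨g, hgK, fun i => ?_⟩
      have h := hS i i.2
      rw [Slp.checkPoint, Bool.and_eq_true] at h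
      have := allRange_spec h.2 m (Nat.zero_le _) (by omega)
      rw [Bool.and_eq_true] at this
      rw [hg i, Nat.eq_of_beq_eq_true this.2]

theorem sub_lower_aux {S : Slp} (hS : ∀ i < T.n, S.checkPoint T i = true) {sel : List ℕ}
    (hprog : S.prog.all (fun W => W.all fun l => decide (l ∈ sel) || Nat.ble T.nl l) = true)
    {K : Subgroup P.Gp} (hK : ∀ l ∈ sel, P.val l ∈ K) :
    ∀ (Ls : List Level) (prev : List ℕ), checkLevels S T prev Ls = true →
      (∀ L ∈ Ls, ∀ j ∈ L.gens, j ∈ sel ∨ T.nl ≤ j) →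
      ∀ H : Subgroup (Equiv.Perm (Fin T.n)),
        (∀ g ∈ K, (∀ p ∈ prev, ∀ i : Fin T.n, (i : ℕ) = p → (R.hom hnd g) i = i) →
          R.hom hnd g ∈ H) → (Ls.map Level.size).prod ≤ Nat.card H := by
  intro Ls
  induction Ls with
  | nil => intro _ _ _ H _; exact Nat.card_pos
  | cons L Ls ih =>
    intro prev h hsel H hH
    simp only [checkLevels, Bool.and_eq_true] at h
    obtain ⟨⟨⟨⟨hb, hgens⟩, hpts⟩, hcnt⟩, hrest⟩ := h
    let b : Fin T.n := ⟨L.b, Nat.le_of_ble_eq_true hb⟩
    have hgen : ∀ j ∈ L.gens, ∃ k ∈ H, ∀ i : Fin T.n, ((k i : Fin T.n) : ℕ) = S.tbl.at' i j := by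
      intro j hj
      rw [List.all_eq_true] at hgens
      have := hgens j hj
      rw [Bool.and_eq_true, List.all_eq_true] at this
      obtain ⟨g, hgK, hg⟩ := R.slp_elements_mem hnd hS hprog hK j (Nat.le_of_ble_eq_true this.1)
        (hsel L List.mem_cons_self j hj)
      refine ⟨(R.hom hnd g)⁻¹, inv_mem (hH g hgK fun p hp i hip => ?_), hg⟩
      have hfix : (R.hom hnd g)⁻¹ i = i := by
        apply Fin.ext
        rw [hg, hip]
        exact Nat.eq_of_beq_eq_true (this.2 p hp)
      rw [Equiv.Perm.inv_eq_iff_eq] at hfix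
      exact hfix.symm
    have hreach : ∀ m : ℕ, ∀ i : Fin T.n, L.getRank i ≤ m → L.getRank i < 65535 →
        ∃ k ∈ H, k i = b := by
      intro m
      induction m using Nat.strong_induction_on with
      | _ m ihm =>
        intro i him hi
        have hp := allRange_spec hpts i (Nat.zero_le _) (by omega)
        have hblt : Nat.blt (L.getRank i) 65535 = true := Nat.ble_eq_true_of_le hi
        rw [Level.checkPoint, hblt, cond_true, Bool.or_eq_true, List.any_eq_true] at hp
        rcases hp with hp | ⟨j, hj, hp⟩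
        · exact ⟨1, one_mem H, Fin.ext (Nat.eq_of_beq_eq_true hp)⟩
        · obtain ⟨k, hk, hkv⟩ := hgen j hj
          have hr : L.getRank (k i) < L.getRank i := by
            rw [hkv]
            exact Nat.le_of_ble_eq_true hp
          obtain ⟨k', hk', hk'v⟩ := ihm _ (lt_of_lt_of_le hr him) (k i) le_rfl (hr.trans hi)
          exact ⟨k' * k, mul_mem hk' hk, by rw [Equiv.Perm.mul_apply, hk'v]⟩
    have horb : L.size ≤ (MulAction.orbit H b).ncard := by
      refine le_trans (Nat.le_of_ble_eq_true hcnt) ?_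
      rw [← ncard_fin_filter T.n (fun i => Nat.blt (L.getRank i) 65535)]
      refine Set.ncard_le_ncard (fun i hi => ?_)
      obtain ⟨k, hk, hki⟩ := hreach _ i le_rfl (Nat.le_of_ble_eq_true hi)
      exact ⟨⟨k⁻¹, inv_mem hk⟩, by show k⁻¹ b = i; rw [Equiv.Perm.inv_eq_iff_eq, hki]⟩
    have hrest' := ih (L.b :: prev) hrest (fun L' hL' => hsel L' (List.mem_cons_of_mem _ hL'))
      (H ⊓ MulAction.stabilizer (Equiv.Perm (Fin T.n)) b) (fun g hgK hg => by
        refine ⟨hH g hgK (fun p hp => hg p (List.mem_cons_of_mem _ hp)), ?_⟩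
        exact hg L.b List.mem_cons_self b rfl)
    have hstab : MulAction.stabilizer H b =
        (H ⊓ MulAction.stabilizer (Equiv.Perm (Fin T.n)) b).subgroupOf H := by
      ext k
      rw [Subgroup.mem_subgroupOf, Subgroup.mem_inf, MulAction.mem_stabilizer_iff,
        MulAction.mem_stabilizer_iff]
      exact ⟨fun h => ⟨k.2, h⟩, fun h => h.2⟩
    calc ((L :: Ls).map Level.size).prod = L.size * (Ls.map Level.size).prod := by simp
      _ ≤ (MulAction.orbit H b).ncard *
          Nat.card (H ⊓ MulAction.stabilizer (Equiv.Perm (Fin T.n)) b : Subgroup _) :=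
        Nat.mul_le_mul horb hrest'
      _ = Nat.card H := by
        rw [← MulAction.index_stabilizer, hstab,
          ← Nat.card_congr (Subgroup.subgroupOfEquivOfLe
            (inf_le_left : H ⊓ MulAction.stabilizer (Equiv.Perm (Fin T.n)) b ≤ H)).toEquiv,
          Subgroup.index_mul_card]

include R hnd in
theorem sub_card_ge [Finite P.Gp] {S : Slp} (hS : ∀ i < T.n, S.checkPoint T i = true) {sel : List ℕ}
    (hprog : S.prog.all (fun W => W.all fun l => decide (l ∈ sel) || Nat.ble T.nl l) = true)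
    {Ls : List Level} (hL : checkLevels S T [] Ls = true)
    (hgens : Ls.all (fun L => L.gens.all fun j => decide (j ∈ sel) || Nat.ble T.nl j) = true)
    {K : Subgroup P.Gp} (hK : ∀ l ∈ sel, P.val l ∈ K) :
    (Ls.map Level.size).prod ≤ Nat.card K := by
  simp only [List.all_eq_true, Bool.or_eq_true, decide_eq_true_eq] at hgens
  have h := R.sub_lower_aux hnd hS hprog hK Ls [] hL
    (fun L hL' j hj => (hgens L hL' j hj).imp id Nat.le_of_ble_eq_true)
    (K.map (R.hom hnd)) (fun g hg _ => ⟨g, hg, rfl⟩)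
  refine h.trans ?_
  exact Nat.card_le_card_of_surjective ((R.hom hnd).subgroupMap K)
    ((R.hom hnd).subgroupMap_surjective K)

end Cfsg.Agent.CosetEnum.InvPres.Rep
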